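import Cfsg.Agent.MON.Red
import Cfsg.Agent.MON.CmE

/-! The Monster amalgam in an arbitrary group: a subgroup `C` of shape `2^(1+24).Co1`, or a part of it. -/

set_option autoImplicit false

namespace Cfsg.Agent.H8.MA

open Subgroup H15 H97 CO1 MON

variable {G : Type*} [Group G]

/-- `Q` is extraspecial with centre `z`, labelled by the Leech lattice, and `C` acts on it through `Co1` -/
structure RC (C : Subgroup G) (z : G) (Q : Subgroup G) (π : C →* Spor.Co1)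
    (R : G → leechLattice → Prop) : Prop where
  ex0 : EX Q z
  le : Q ≤ C
  cz : ∀ c ∈ C, c * z = z * c
  large : ∀ c ∈ C, (∀ a ∈ Q, c * a = a * c) → c = 1 ∨ c = z
  sep : ∀ M : Subgroup G, M ≤ Q → z ∈ M → ∀ a ∈ Q, a ∉ M →
    ∃ b ∈ Q, (∀ m ∈ M, b * m = m * b) ∧ b * a * b⁻¹ = z * a
  card : Nat.card Q = 2 ^ 25
  ker : ∀ h, π h = 1 ↔ (h : G) ∈ Q
  mem : ∀ {q v}, R q v → q ∈ Q
  ex : ∀ q ∈ Q, ∃ v, R q v
  ex' : ∀ v, ∃ q, R q v
  mul : ∀ {q v q' v'}, R q v → R q' v' → R (q * q') (v + v')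
  one_iff : ∀ {q v}, R q v → ((q = 1 ∨ q = z) ↔ ∃ w, v = w + w)
  two : ∀ w, R 1 (w + w)
  zed : R z 0
  conj : ∀ (h : C) (g : Co0), (g : Spor.Co1) = π h → ∀ {q v}, R q v → R (h * q * (h : G)⁻¹) (g • v)
  sq_iff : ∀ {q v}, R q v → (q * q = 1 ↔ (32 : ℤ) ∣ sqNorm (v : Vec))
  comm_iff : ∀ {q q' v v'}, R q v → R q' v' → (q * q' = q' * q ↔ (16 : ℤ) ∣ dotInt (v : Vec) (v' : Vec))

theorem rc_of_md [Finite G] {z : G} {Q : Subgroup G} {π : Cz z →* Spor.Co1} {R : G → leechLattice → Prop}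
    (M : MD z Q π R) : RC (Cz z) z Q π R :=
  ⟨ex_of_lx M.lx, fun a ha => mem_Cz.2 (M.lx.cen a ha), fun _ h => mem_Cz.1 h, fun c _ => M.lx.large c,
    M.lx.sep, M.card, M.ker, M.mem, M.ex, M.ex', M.mul, M.one_iff, M.two, M.zed, M.conj, M.sq_iff, M.comm_iff⟩

variable {C : Subgroup G} {z : G} {Q : Subgroup G} {π : C →* Spor.Co1} {R : G → leechLattice → Prop}

/-- `x` induces `± k` -/
def PJ (π : C →* Spor.Co1) (x : G) (k : Co0) : Prop := ∃ h : x ∈ C, (k : Spor.Co1) = π ⟨x, h⟩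

theorem PJ.ex {x : G} (hx : x ∈ C) : ∃ k, PJ π x k :=
  let ⟨k, e⟩ := QuotientGroup.mk_surjective (π ⟨x, hx⟩); ⟨k, hx, e⟩

theorem PJ.one : PJ π 1 1 := ⟨one_mem _, (map_one π).symm⟩

theorem PJ.mul {x y : G} {k l : Co0} (h : PJ π x k) (h' : PJ π y l) : PJ π (x * y) (k * l) :=
  ⟨mul_mem h.1 h'.1, by rw [QuotientGroup.mk_mul, h.2, h'.2, ← map_mul]; rfl⟩

theorem PJ.inv {x : G} {k : Co0} (h : PJ π x k) : PJ π x⁻¹ k⁻¹ :=
  ⟨inv_mem h.1, by rw [QuotientGroup.mk_inv, h.2, ← map_inv]; rfl⟩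

theorem PJ.pow {x : G} {k : Co0} (h : PJ π x k) (n : ℕ) : PJ π (x ^ n) (k ^ n) :=
  ⟨pow_mem h.1 n, by rw [QuotientGroup.mk_pow, h.2, ← map_pow]; rfl⟩

theorem PJ.eq {x : G} {k l : Co0} (h : PJ π x k) (h' : PJ π x l) : (k : Spor.Co1) = l := h.2.trans h'.2.symm

theorem PJ.congr {x : G} {k l : Co0} (h : PJ π x k) (e : (l : Spor.Co1) = k) : PJ π x l := ⟨h.1, e.trans h.2⟩

/-- the preimage in `Co0` of the image of `H` in `Co1` -/
def pk (π : C →* Spor.Co1) (H : Subgroup G) : Subgroup Co0 :=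
  ((H.subgroupOf C).map π).comap (QuotientGroup.mk' _)

theorem mem_pk {H : Subgroup G} {k : Co0} : k ∈ pk π H ↔ ∃ x ∈ H, PJ π x k :=
  ⟨fun ⟨h, h1, h2⟩ => ⟨h, h1, h.2, h2.symm⟩, fun ⟨h, h1, h2, h3⟩ => ⟨⟨h, h2⟩, h1, h3.symm⟩⟩

theorem pk_mono {H K : Subgroup G} (h : H ≤ K) : pk π H ≤ pk π K := fun _ hk =>
  let ⟨x, a, b⟩ := mem_pk.1 hk; mem_pk.2 ⟨x, h a, b⟩

theorem neg_mem_pk (H : Subgroup G) : negC ∈ pk π H :=
  mem_pk.2 ⟨1, one_mem _, PJ.one.congr (by simpa using co1_neg 1)⟩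

/-- the twisted projection -/
def tw (π : C →* Spor.Co1) (k : Co0) : C →* Spor.Co1 := (MulAut.conj (k : Spor.Co1)).toMonoidHom.comp π

theorem pj_tw {k l : Co0} {x : G} : PJ (tw π k) x l ↔ PJ π x (k⁻¹ * l * k) := by
  refine exists_congr fun h => ?_
  simp only [tw, MonoidHom.comp_apply, MulEquiv.coe_toMonoidHom, MulAut.conj_apply, QuotientGroup.mk_mul,
    QuotientGroup.mk_inv]
  constructor
  · intro e; rw [e]; group
  · intro e; rw [← e]; group

theorem mem_pk_tw {k l : Co0} {H : Subgroup G} : l ∈ pk (tw π k) H ↔ k⁻¹ * l * k ∈ pk π H := by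
  simp only [mem_pk, pj_tw]

/-- the projection pulled back along a homomorphism -/
def pull {H : Type*} [Group H] (π : C →* Spor.Co1) (f : H →* G) (C' : Subgroup H) (h : ∀ x ∈ C', f x ∈ C) :
    C' →* Spor.Co1 := π.comp ((f.comp C'.subtype).codRestrict C fun x => h x x.2)

theorem pj_pull {H : Type*} [Group H] {f : H →* G} {C' : Subgroup H} {h : ∀ x ∈ C', f x ∈ C} {x : H} {k : Co0} :
    PJ (pull π f C' h) x k ↔ x ∈ C' ∧ PJ π (f x) k :=
  ⟨fun ⟨a, b⟩ => ⟨a, h x a, b⟩, fun ⟨a, _, b⟩ => ⟨a, b⟩⟩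

namespace RC

variable (M : RC C z Q π R)
include M

theorem pullback {H : Type*} [Group H] (f : H →* G) (hf : Function.Injective f) (C' : Subgroup H)
    (h : ∀ x ∈ C', f x ∈ C) {z' : H} (hz : f z' = z) (hQ : Q ≤ C'.map f) :
    RC C' z' (Q.comap f) (pull π f C' h) (fun q v => R (f q) v) := by
  subst hz
  have s : ∀ a ∈ Q, ∃ b, f b = a := fun a ha => let ⟨b, _, e⟩ := hQ ha; ⟨b, e⟩
  have e1 : ∀ {a}, f a = 1 ↔ a = 1 := map_eq_one_iff f hf
  refine ⟨⟨M.ex0.mem, fun e => M.ex0.ne (by rw [e, map_one]), hf (by rw [map_mul, M.ex0.sq, map_one]),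
    fun a ha => hf (by rw [map_mul, map_mul, M.ex0.cen _ ha]), fun a ha b hb => ?_, fun a ha => ?_,
    fun g hg k => ?_⟩, fun a ha => ?_, fun c hc => hf (by rw [map_mul, map_mul, M.cz _ (h c hc)]),
    fun c hc k => ?_, fun K h1 h2 a h3 h4 => ?_, ?_, fun x => M.ker _, M.mem, fun q hq => M.ex _ hq,
    fun v => ?_, fun a b => by rw [map_mul]; exact M.mul a b, fun a => ?_, fun w => by rw [map_one]; exact M.two w,
    M.zed, fun x g e q v a => ?_, fun a => ?_, fun a b => ?_⟩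
  · simpa only [← map_inv, ← map_mul, hf.eq_iff] using M.ex0.comm _ ha _ hb
  · simpa only [← map_mul, hf.eq_iff, e1] using M.ex0.sqr _ ha
  · simpa only [hf.eq_iff, e1] using M.ex0.center _ hg fun a ha => by
      obtain ⟨b, rfl⟩ := s a ha
      rw [← map_mul, k b ha, map_mul]
  · obtain ⟨b, hb, e⟩ := hQ ha
    exact hf e ▸ hb
  · simpa only [hf.eq_iff, e1] using M.large _ (h c hc) fun a ha => by
      obtain ⟨b, rfl⟩ := s a ha
      rw [← map_mul, k b ha, map_mul]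
  · obtain ⟨b, hb, k1, k2⟩ := M.sep (K.map f) (map_le_iff_le_comap.2 h1) (mem_map_of_mem f h2) _ h3
      (by rwa [mem_map_iff_mem hf])
    obtain ⟨b, rfl⟩ := s b hb
    exact ⟨b, hb, fun m hm => hf (by rw [map_mul, k1 _ (mem_map_of_mem f hm), map_mul]),
      hf (by rw [map_mul, map_mul, map_inv, k2, map_mul])⟩
  · rw [← M.card, ← card_map_of_injective hf, map_comap_eq_self (hQ.trans (map_le_range f _))]
  · obtain ⟨q, hq⟩ := M.ex' v
    obtain ⟨b, rfl⟩ := s q (M.mem hq)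
    exact ⟨b, hq⟩
  · simpa only [hf.eq_iff, e1] using M.one_iff a
  · simpa only [map_mul, map_inv] using M.conj ⟨f x, h x x.2⟩ g e a
  · simpa only [← map_mul, e1] using M.sq_iff a
  · simpa only [← map_mul, hf.eq_iff] using M.comm_iff a b

theorem act {x q : G} {k : Co0} {v : leechLattice} (h : PJ π x k) (hq : R q v) : R (x * q * x⁻¹) (k • v) :=
  M.conj ⟨x, h.1⟩ k h.2 hq

theorem twist (k : Co0) : RC C z Q (tw π k) (fun q v => R q (k⁻¹ • v)) := by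
  refine ⟨M.ex0, M.le, M.cz, M.large, M.sep, M.card, fun h => ?_,
    fun h => M.mem h, fun q hq => ?_, fun v => M.ex' _, fun h h' => ?_,
    fun {q v} h => ?_, fun w => ?_, ?_, fun h g e q v hq => ?_, fun h => ?_, fun h h' => ?_⟩
  · rw [tw, MonoidHom.comp_apply, MulEquiv.coe_toMonoidHom, MulEquiv.map_eq_one_iff, M.ker]
  · obtain ⟨v, hv⟩ := M.ex q hq
    exact ⟨k • v, by rwa [inv_smul_smul]⟩
  · rw [co0_smul_add]; exact M.mul h h'
  · rw [M.one_iff h]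
    constructor
    · rintro ⟨w, hw⟩
      exact ⟨k • w, by rw [← co0_smul_add, ← hw, smul_inv_smul]⟩
    · rintro ⟨w, rfl⟩
      exact ⟨_, co0_smul_add _ _ _⟩
  · rw [co0_smul_add]; exact M.two _
  · rw [co0_smul_zero]; exact M.zed
  · have := M.act (pj_tw.1 ⟨h.2, e⟩) hq
    rwa [mul_smul, smul_inv_smul, mul_smul] at this
  · rw [M.sq_iff h, co0_norm]
  · rw [M.comm_iff h h', co0_dot]

theorem norm {x a : G} (hx : x ∈ C) (ha : a ∈ Q) : x * a * x⁻¹ ∈ Q :=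
  let ⟨_, hk⟩ := PJ.ex (π := π) hx; let ⟨_, hv⟩ := M.ex a ha; M.mem (M.act hk hv)

theorem zC : z ∈ C := M.le M.ex0.mem

theorem cjz {x : G} (hx : x ∈ C) : x * z * x⁻¹ = z := by rw [M.cz x hx, mul_inv_cancel_right]

theorem finQ : Finite Q := Nat.finite_of_card_ne_zero (by rw [M.card]; norm_num)

theorem ker' {x : G} {k : Co0} (h : PJ π x k) : (k : Spor.Co1) = 1 ↔ x ∈ Q := by
  rw [h.2]; exact M.ker _

theorem pj_Q {x : G} (h : x ∈ Q) : PJ π x 1 := ⟨M.le h, ((M.ker ⟨x, M.le h⟩).2 h).symm⟩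

theorem of_eq {x y : G} {k l : Co0} (h : PJ π x k) (h' : PJ π y l) (e : (k : Spor.Co1) = l) : x * y⁻¹ ∈ Q :=
  (M.ker' (h.mul h'.inv)).1 (by rw [QuotientGroup.mk_mul, QuotientGroup.mk_inv, e, mul_inv_cancel])

theorem add_two {q : G} {v : leechLattice} (h : R q v) (w : leechLattice) : R q (v + (w + w)) := by
  simpa using M.mul h (M.two w)

theorem zmul {q : G} {v : leechLattice} (h : R q v) : R (z * q) v := by
  simpa using M.mul M.zed h

theorem neg {q : G} {v : leechLattice} (h : R q v) : R q (-v) := by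
  have := M.add_two h (-v)
  rwa [show v + (-v + -v) = -v by abel] at this

theorem inv {q : G} {v : leechLattice} (h : R q v) : R q⁻¹ v := by
  obtain ⟨v', hv'⟩ := M.ex _ (Q.inv_mem (M.mem h))
  obtain ⟨w, hw⟩ := (M.one_iff (M.mul h hv')).1 (Or.inl (mul_inv_cancel q))
  have := M.add_two hv' (v - w)
  rwa [show v' + (v - w + (v - w)) = v + (v + v') - (w + w) by abel, hw, add_sub_cancel_right]
    at this

theorem uniq {q q' : G} {v : leechLattice} (h : R q v) (h' : R q' v) : q' = q ∨ q' = z * q := by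
  have := (M.one_iff (M.mul h' (M.inv h))).2 ⟨v, rfl⟩
  rwa [mul_inv_eq_one, mul_inv_eq_iff_eq_mul] at this

theorem congr {q : G} {v v' : leechLattice} (h : R q v) (h' : R q v') : ∃ w, v' = v + (w + w) := by
  obtain ⟨w, hw⟩ := (M.one_iff (M.mul h' (M.inv h))).1 (Or.inl (mul_inv_cancel q))
  exact ⟨w - v, by rw [show v + (w - v + (w - v)) = w + w - v by abel, ← hw]; abel⟩

theorem zz (a : G) : z * (z * a) = a := by rw [← mul_assoc, M.ex0.sq, one_mul]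

theorem ne_of_short {q : G} {v : leechLattice} (h : R q v) (h0 : sqNorm (v : Vec) ≠ 0)
    (h1 : sqNorm (v : Vec) ≤ 64) : q ≠ 1 ∧ q ≠ z := by
  rw [← not_or, M.one_iff h]
  rintro ⟨w, hw⟩
  exact short_ne_two h0 h1 hw

theorem short {q : G} (hq : q ∈ Q) : (q = 1 ∨ q = z) ∨ ∃ v, R q v ∧
    (sqNorm (v : Vec) = 32 ∨ sqNorm (v : Vec) = 48 ∨ sqNorm (v : Vec) = 64) := by
  obtain ⟨v, hv⟩ := M.ex q hq
  obtain ⟨y, w, rfl, hy⟩ := exists_short' v
  have := M.add_two hv (-w)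
  rw [show y + (w + w) + (-w + -w) = y by abel] at this
  rcases hy with rfl | hy
  · exact Or.inl ((M.one_iff this).2 ⟨0, by simp⟩)
  · exact Or.inr ⟨y, this, hy⟩

theorem card_pk {H : Subgroup G} (hH : H ≤ C) :
    2 * Nat.card H = Nat.card (H ⊓ Q : Subgroup G) * Nat.card (pk π H) := by
  have hk : π.ker = Q.subgroupOf _ := by
    ext h; rw [MonoidHom.mem_ker, M.ker, mem_subgroupOf]
  have h1 := relIndex_ker (H.subgroupOf C) π
  rw [hk, relIndex_subgroupOf hH, ← inf_relIndex_left] at h1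
  have h2 := ((H ⊓ Q).subgroupOf H).card_mul_index
  rw [Nat.card_congr (subgroupOfEquivOfLe inf_le_left).toEquiv] at h2
  rw [pk, card_comap_co1, ← h1, ← h2, relIndex]
  ring

theorem finC : Finite C := by
  have := finite_Co0
  have := M.finQ
  have h := M.card_pk le_rfl
  rw [inf_eq_right.2 M.le] at h
  exact Nat.finite_of_card_ne_zero fun e => by
    rw [e] at h
    exact (Nat.mul_pos Nat.card_pos Nat.card_pos).ne h

theorem card_cent {K : Subgroup G} (hK : K ≤ Q) (hz : z ∈ K) :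
    Nat.card (Q ⊓ centralizer (K : Set G) : Subgroup G) * Nat.card K = 2 ^ 26 := by
  have := M.finQ
  have h := (M.pullback Q.subtype (subtype_injective _) ⊤ (fun x _ => M.le x.2) (z' := ⟨z, M.ex0.mem⟩) rfl
    (by rw [← MonoidHom.range_eq_map, range_subtype])).ex0.card_cent (M := K.subgroupOf Q)
    (fun x _ => x.2) hz
  rw [Nat.card_congr (subgroupOfEquivOfLe hK).toEquiv, ← card_map_of_injective (subtype_injective Q),
    ← card_map_of_injective (K := Q.comap Q.subtype) (subtype_injective Q),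
    map_comap_eq_self (by rw [range_subtype]), M.card] at h
  rw [show 2 ^ 26 = 2 * 2 ^ 25 by norm_num, ← h]
  congr 3
  ext x
  constructor
  · rintro ⟨a, b⟩
    exact ⟨⟨x, a⟩, ⟨a, fun m hm => Subtype.ext (b m hm)⟩, rfl⟩
  · rintro ⟨x, ⟨a, b⟩, rfl⟩
    exact ⟨a, fun m hm => congrArg Subtype.val (b ⟨m, hK hm⟩ hm)⟩

theorem mem_four {a b : G} (ha : a ∈ Q) : b ∈ four z a ↔ b = 1 ∨ b = z ∨ b = a ∨ b = z * a := M.ex0.mem_four ha

theorem sep1 {a : G} (ha : a ∈ Q) (h1 : a ≠ 1) (h2 : a ≠ z) : ∃ b ∈ Q, b * a * b⁻¹ = z * a :=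
  let ⟨b, hb, _, e⟩ := M.sep (zpowers z) (zpowers_le.2 M.ex0.mem) (mem_zpowers z) a ha
    (by rw [mem_zpowers_two M.ex0.sq]; tauto)
  ⟨b, hb, e⟩

theorem sep2 {a b : G} (ha : a ∈ Q) (hb : b ∈ Q) (h : b ∉ four z a) :
    ∃ c ∈ Q, c * a = a * c ∧ c * b * c⁻¹ = z * b :=
  let ⟨c, hc, e1, e2⟩ := M.sep (four z a) (four_le M.ex0.mem ha) (left_mem_four z a) b hb h
  ⟨c, hc, e1 a (right_mem_four z a), e2⟩

omit M in
theorem lx {π : Cz z →* Spor.Co1} (M : RC (Cz z) z Q π R) : LX Q z :=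
  ⟨M.ex0.mem, M.ex0.ne, M.ex0.sq, M.ex0.cen, M.ex0.comm, M.ex0.sqr,
    fun g h => M.large g (mem_Cz.2 (h z M.ex0.mem)) h, fun _ h _ ha => M.norm (mem_Cz.2 h) ha, M.sep⟩

end RC

open H4.GF CM in
theorem md_of_lx [Finite G] (L : LX Q z) (hc : Nat.card Q = 2 ^ 25) (ψ : Cz z →* Spor.Co1)
    (hs : Function.Surjective ψ) (hk : ∀ h, ψ h = 1 ↔ (h : G) ∈ Q) : ∃ R, MD z Q ψ R := by
  obtain ⟨V, _, _, _, _, ⟨Y⟩⟩ := exists_QD L ψ hs hk
  obtain ⟨χ, h1, h2, h3⟩ := co1_mod (V := V) (fun v => by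
      rw [← two_smul (ZMod 2), show (2 : ZMod 2) = 0 from rfl, zero_smul]) (by
      have := Y.X.card
      omega) ⟨El 0, by
      by_contra! k
      refine not_mono ?_
      rcases co1_eq_iff.1 (Y.M.faith _ k : _ = ((1 : Co0) : Spor.Co1)).symm with e | e <;> rw [e]
      exacts [one_mem _, mul_mem (signG_le negC_mem_signG) (one_mem _)]⟩
  refine ⟨fun q v => q ∈ Q ∧ Y.X.π q = χ v, L, hc, hs, hk, fun h => h.1, fun q hq => ?_, fun v => ?_,
    fun h h' => ⟨mul_mem h.1 h'.1, ?_⟩, fun h => ?_, fun w => ⟨one_mem _, ?_⟩, ⟨L.mem, ?_⟩,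
    fun h g e q v hq => ⟨L.norm h (mem_Cz.1 h.2) q hq.1, ?_⟩⟩
  · obtain ⟨v, hv⟩ := h1 (Y.X.π q)
    exact ⟨v, hq, hv.symm⟩
  · exact Y.X.surj (χ v)
  · rw [Y.X.π_mul _ h.1 _ h'.1, h.2, h'.2, map_add]
  · rw [← Y.X.π_zero _ h.1, h.2, h2]
  · rw [(Y.X.π_zero _ (one_mem _)).2 (.inl rfl), (h2 _).2 ⟨w, rfl⟩]
  · rw [(Y.X.π_zero _ L.mem).2 (.inr rfl), map_zero]
  · rw [h3, e, ← hq.2, Y.smul, Y.X.act h _ hq.1]

/-- the data attached to a subgroup `2^(1+24).Co1` -/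
theorem exists_rc (C : Subgroup G) (hQ : IsExtraspecial 2 ((pCore 2 C).map C.subtype))
    (hc : Nat.card ((pCore 2 C).map C.subtype) = 2 ^ 25)
    (hcc : C ⊓ centralizer (((pCore 2 C).map C.subtype) : Set G) ≤ (pCore 2 C).map C.subtype)
    (hCo : Spor.IsoCo1 (C ⧸ pCore 2 C)) :
    ∃ z Q π R, RC C z Q π R ∧ Function.Surjective π := by
  have : Fact (Nat.Prime 2) := ⟨Nat.prime_two⟩
  obtain ⟨e⟩ := hCo
  have := finite_Co0
  rw [card_map_of_injective (subtype_injective _)] at hc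
  have : Finite (pCore 2 C) := Nat.finite_of_card_ne_zero (by rw [hc]; norm_num)
  have : Finite (C ⧸ pCore 2 C) := Finite.of_equiv _ e.symm.toEquiv
  have : Finite C := Finite.of_subgroup_quotient (pCore 2 C)
  have : Finite ((pCore 2 C).map C.subtype) :=
    Finite.of_equiv _ ((pCore 2 C).equivMapOfInjective _ (subtype_injective _)).toEquiv
  have hE : IsExtraspecial 2 (pCore 2 C) := isExtraspecial_congr
    ((pCore 2 C).equivMapOfInjective _ (subtype_injective _)).symm hQ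
  obtain ⟨z, hz⟩ := exists_prime_orderOf_dvd_card' (G := center (pCore 2 C)) 2 hE.2.symm.dvd
  have hz2 : ∀ x : center (pCore 2 C), x = 1 ∨ x = z := fun x => by
    have h : zpowers z = ⊤ := eq_top_of_card_eq _ (by rw [Nat.card_zpowers, hz, hE.2])
    exact (mem_zpowers_two (by
      have := pow_orderOf_eq_one z
      rwa [hz, pow_two] at this)).1 (h.ge (mem_top x))
  have o : orderOf (z.1.1 : C) = 2 := by rw [Subgroup.orderOf_coe, Subgroup.orderOf_coe, hz]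
  have hC : ∀ c : C, c ∈ Cz (z.1.1 : C) := fun c => by
    let a : pCore 2 C := ⟨c * z.1.1 * c⁻¹, Normal.conj_mem inferInstance _ z.1.2 c⟩
    have ha : a ∈ center (pCore 2 C) := mem_center_iff.2 fun b => Subtype.ext (by
      have := congrArg Subtype.val (mem_center_iff.1 z.2 ⟨c⁻¹ * b * c⁻¹⁻¹, Normal.conj_mem inferInstance _ b.2 _⟩)
      simp only [coe_mul, a] at this ⊢
      calc _ = c * (c⁻¹ * b * c⁻¹⁻¹ * z.1.1) * c⁻¹ := by group
        _ = _ := by rw [this]; group)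
    rcases hz2 ⟨a, ha⟩ with h | h
    · have : (z.1.1 : C) = 1 := by simpa [a] using congrArg (fun x => x.1.1) h
      rw [this] at o; simp at o
    · exact Cz_of_conj (congrArg (fun x => x.1.1) h)
  have L : LX (pCore 2 C) z.1.1 := lx_of_extraspecial o hE (fun c h => by
    simpa using hcc (x := c) ⟨c.2, by rintro _ ⟨a, ha, rfl⟩; exact congrArg Subtype.val (h a ha)⟩)
    (fun a _ => hC a) (by rw [normalizer_eq_top]; exact le_top)
  obtain ⟨R, M⟩ := md_of_lx L hc ((e.toMonoidHom.comp (QuotientGroup.mk' _)).comp (Cz _).subtype)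
    (fun k => by
      obtain ⟨c, rfl⟩ := (e.surjective.comp (QuotientGroup.mk'_surjective _)) k
      exact ⟨⟨c, hC c⟩, rfl⟩) fun h => by simp [QuotientGroup.eq_one_iff]
  have M := rc_of_md M
  have i : ∀ {a b : C}, (a : G) = b ↔ a = b := Subtype.ext_iff.symm
  refine ⟨z.1.1, (pCore 2 C).map C.subtype, e.toMonoidHom.comp (QuotientGroup.mk' _),
    fun q v => ∃ h : q ∈ C, R ⟨q, h⟩ v, ⟨⟨⟨_, M.ex0.mem, rfl⟩, fun h => M.ex0.ne (Subtype.ext h),
      congrArg Subtype.val M.ex0.sq, ?_, ?_, ?_, ?_⟩, map_subtype_le _,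
      fun c h => congrArg Subtype.val (mem_Cz.1 (hC ⟨c, h⟩)), fun c h k => ?_, fun K h1 h2 a h3 h4 => ?_,
      (card_map_of_injective (subtype_injective _)).trans hc, fun h => by simp [QuotientGroup.eq_one_iff],
      fun h => ⟨_, M.mem h.2, rfl⟩, ?_, fun v => ?_, fun h h' => ⟨mul_mem h.1 h'.1, M.mul h.2 h'.2⟩,
      fun h => ?_, fun w => ⟨one_mem _, M.two w⟩, ⟨z.1.1.2, M.zed⟩,
      fun h g k q v a => ⟨mul_mem (mul_mem h.2 a.1) (inv_mem h.2), M.conj ⟨h, hC h⟩ g k a.2⟩,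
      fun h => ?_, fun h h' => ?_⟩, e.surjective.comp (QuotientGroup.mk'_surjective _)⟩
  · rintro _ ⟨a, ha, rfl⟩
    exact congrArg Subtype.val (M.ex0.cen a ha)
  · rintro _ ⟨a, ha, rfl⟩ _ ⟨b, hb, rfl⟩
    exact (M.ex0.comm a ha b hb).imp (congrArg Subtype.val) (congrArg Subtype.val)
  · rintro _ ⟨a, ha, rfl⟩
    exact (M.ex0.sqr a ha).imp (congrArg Subtype.val) (congrArg Subtype.val)
  · rintro _ ⟨a, ha, rfl⟩ k
    exact (M.ex0.center a ha fun b hb => Subtype.ext (k _ ⟨b, hb, rfl⟩)).imp (congrArg Subtype.val)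
      (congrArg Subtype.val)
  · exact (L.large ⟨c, h⟩ fun b hb => Subtype.ext (k _ ⟨b, hb, rfl⟩)).imp (congrArg Subtype.val)
      (congrArg Subtype.val)
  · obtain ⟨a, h3, rfl⟩ := h3
    obtain ⟨b, hb, k1, k2⟩ := M.sep (K.subgroupOf C) (fun x hx => by simpa using h1 hx) h2 a h3 h4
    exact ⟨b, ⟨b, hb, rfl⟩, fun m hm => congrArg Subtype.val (k1 ⟨m, map_subtype_le _ (h1 hm)⟩ hm),
      congrArg Subtype.val k2⟩
  · rintro _ ⟨a, ha, rfl⟩
    exact (M.ex a ha).imp fun v h => ⟨a.2, h⟩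
  · obtain ⟨q, hq⟩ := M.ex' v
    exact ⟨q, q.2, hq⟩
  · rw [← M.one_iff h.2, ← i, ← i]; rfl
  · rw [← M.sq_iff h.2, ← i]; rfl
  · rw [← M.comm_iff h.2 h'.2, ← i]; rfl

end Cfsg.Agent.H8.MA
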