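import Cfsg.Agent.H8.MA.A

/-! The Monster amalgam: the centraliser of the four-group (after `MON/CmB`). -/

set_option autoImplicit false
set_option linter.unusedSectionVars false

namespace Cfsg.Agent.H8.MA

open Subgroup H15 H97 CO1 MON.Cm
open scoped Pointwise commutatorElement

variable {G : Type*} [Group G] {O : G → Subgroup G} {z t : G} {π : Cz z →* Spor.Co1}
  {R : G → leechLattice → Prop}

/-- a family `O` of extraspecial groups, and a conjugate `t` of `z` with label `8 e_∞` -/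
structure MQ (O : G → Subgroup G) (z t : G) (π : Cz z →* Spor.Co1) (R : G → leechLattice → Prop) : Prop
    extends RC (Cz z) z (O z) π R where
  rt : R t (e8 none)
  cjO : ∀ g x, O (g * x * g⁻¹) = cjs g (O x)
  swp : ∃ g, g * z * g⁻¹ = t ∧ g * t * g⁻¹ = z
  zO : z ∈ O t
  pL : pk π (Cz z ⊓ Cz t) = monoN
  pA : pk π (O t ⊓ Cz z) = signG
  cE : Nat.card (O z ⊓ O t : Subgroup G) = 2 ^ 13

theorem cjs_inf (g : G) (A B : Subgroup G) : cjs g (A ⊓ B) = cjs g A ⊓ cjs g B := by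
  ext; simp only [mem_inf, mem_cjs]

theorem mem_Cz_cj {g x a : G} : a ∈ Cz (g * x * g⁻¹) ↔ g⁻¹ * a * g ∈ Cz x := by
  rw [mem_Cz, mem_Cz]
  constructor
  · intro h
    calc _ = g⁻¹ * (a * (g * x * g⁻¹)) * g := by group
      _ = _ := by rw [h]; group
  · intro h
    calc _ = g * (g⁻¹ * a * g * x) * g⁻¹ := by group
      _ = _ := by rw [h]; group

namespace MQ

variable (M : MQ O z t π R)
include M

theorem lx : LX (O z) z := M.toRC.lx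

theorem cj (g : G) : ∃ π' R', MQ O (g * z * g⁻¹) (g * t * g⁻¹) π' R' := by
  let f : G →* G := (MulAut.conj g).symm.toMonoidHom
  have hf : ∀ x, f x = g⁻¹ * x * g := fun x => MulAut.conj_symm_apply g x
  have h1 : ∀ x ∈ Cz (g * z * g⁻¹), f x ∈ Cz z := fun x hx => mem_Cz_cj.1 hx
  have e : ∀ A : Subgroup G, A.comap f = cjs g A := fun A => by ext; rw [mem_cjs]; rfl
  have k : ∀ A : Subgroup G, A ≤ Cz z → pk (pull π f _ h1) (cjs g A) = pk π A := fun A hA => by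
    ext k
    simp only [mem_pk, pj_pull]
    exact ⟨fun ⟨x, a, _, b⟩ => ⟨_, mem_cjs.1 a, b⟩, fun ⟨x, a, b⟩ => ⟨g * x * g⁻¹, conj_mem_cjs.2 a,
      mem_Cz_cj.2 (by simpa [mul_assoc] using hA a), by simpa [hf, mul_assoc] using b⟩⟩
  have c : ∀ x, Cz (g * x * g⁻¹) = cjs g (Cz x) := fun x => by ext; rw [mem_cjs, mem_Cz_cj]
  have := M.toRC.pullback f (MulAut.conj g).symm.injective _ h1 (z' := g * z * g⁻¹) (by rw [hf]; group)
    fun a ha => ⟨g * a * g⁻¹, mem_Cz_cj.2 (by simpa [mul_assoc] using M.le ha), by rw [hf]; group⟩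
  rw [e, ← M.cjO] at this
  obtain ⟨s, s1, s2⟩ := M.swp
  refine ⟨_, _, this, by simpa [hf, mul_assoc] using M.rt, M.cjO, ⟨g * s * g⁻¹, ?_, ?_⟩, ?_, ?_, ?_, ?_⟩
  · rw [← s1]; group
  · nth_rewrite 1 [← s2]; group
  · rw [M.cjO, conj_mem_cjs]; exact M.zO
  · rw [← M.pL, ← k _ inf_le_left, cjs_inf, ← c, ← c]
  · rw [← M.pA, ← k _ inf_le_right, cjs_inf, ← c, ← M.cjO]
  · rw [M.cjO, M.cjO, ← cjs_inf, card_cjs, M.cE]

theorem symm : ∃ π' R', MQ O t z π' R' := by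
  obtain ⟨g, h1, h2⟩ := M.swp
  have := M.cj g
  rwa [h1, h2] at this

theorem cm {x a : G} (hx : x ∈ Cz z) (ha : a ∈ O z) : a * x * a⁻¹ * x⁻¹ ∈ O z := by
  simpa only [mul_assoc] using mul_mem ha (M.norm hx (inv_mem ha))

theorem tQ : t ∈ O z := M.mem M.rt

theorem ne : t ≠ 1 ∧ t ≠ z := M.ne_of_short M.rt (by rw [sqNorm_e8]; omega) (by rw [sqNorm_e8])

theorem comm : z * t = t * z := (M.lx.cen t M.tQ).symm

theorem mem_four {v : G} : v ∈ four z t ↔ v = 1 ∨ v = z ∨ v = t ∨ v = z * t := (ex_of_lx M.lx).mem_four M.tQ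

theorem four_le : four z t ≤ O z := H15.four_le M.lx.mem M.tQ

theorem swap : ∃ q ∈ O z, q * t * q⁻¹ = z * t := M.lx.exists_conj M.tQ M.ne.1 M.ne.2

theorem zt : MQ O z (z * t) π R := by
  obtain ⟨q, hq, e⟩ := M.swap
  obtain ⟨s, s1, s2⟩ := M.swp
  have q1 := M.cjz (M.le hq)
  have o : O (z * t) = cjs q (O t) := by rw [← e, M.cjO]
  refine ⟨M.toRC, M.zmul M.rt, M.cjO, ⟨q * s * q⁻¹, ?_, ?_⟩, ?_, (congrArg (pk π) XG_zt).trans M.pL, ?_, ?_⟩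
  · calc _ = q * (s * (q⁻¹ * (q * z * q⁻¹) * q) * s⁻¹) * q⁻¹ := by rw [q1]; group
      _ = _ := by rw [← e, ← s1]; group
  · calc _ = q * (s * t * s⁻¹) * q⁻¹ := by rw [← e]; group
      _ = _ := by rw [s2, q1]
  · rw [o, ← q1, conj_mem_cjs]; exact M.zO
  · rw [← M.pA, o]
    ext k
    simp only [mem_pk]
    refine ⟨fun ⟨x, a, b⟩ => ⟨_, ⟨mem_cjs.1 a.1, (Cz z).mul_mem (mul_mem ((Cz z).inv_mem (M.le hq)) a.2) (M.le hq)⟩, ?_⟩,
      fun ⟨x, a, b⟩ => ⟨_, ⟨conj_mem_cjs.2 a.1, (Cz z).mul_mem (mul_mem (M.le hq) a.2) (inv_mem (M.le hq))⟩, ?_⟩⟩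
    · simpa using ((M.pj_Q hq).inv.mul b).mul (M.pj_Q hq)
    · simpa using ((M.pj_Q hq).mul b).mul (M.pj_Q hq).inv
  · rw [← M.cE, ← card_cjs q (O z ⊓ O t), cjs_inf, ← o, ← M.cjO, q1]

theorem lxt : LX (O t) t := let ⟨_, _, M'⟩ := M.symm; M'.lx

theorem exL {k : Co0} (hk : k ∈ monoN) : ∃ x ∈ Cz t, PJ π x k :=
  let ⟨x, a, e⟩ := mem_pk.1 (M.pL ▸ hk); ⟨x, a.2, e⟩

theorem memL {x : G} {k : Co0} (hx : x ∈ Cz t) (h : PJ π x k) : k ∈ monoN :=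
  M.pL ▸ mem_pk.2 ⟨x, ⟨h.1, hx⟩, h⟩

theorem exA {k : Co0} (hk : k ∈ signG) : ∃ x ∈ O t, PJ π x k :=
  let ⟨x, a, e⟩ := mem_pk.1 (M.pA ▸ hk); ⟨x, a.1, e⟩

theorem memA {x : G} {k : Co0} (hx : x ∈ O t) (h : PJ π x k) : k ∈ signG :=
  M.pA ▸ mem_pk.2 ⟨x, ⟨hx, h.1⟩, h⟩

variable [Finite G]

theorem Ct_iff {q : G} {v : leechLattice} (h : R q v) : q ∈ Cz t ↔ (v : Vec) none % 2 = 0 := by
  rw [mem_Cz, M.comm_iff h M.rt, dot_e8]; omega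

theorem commE {a b : G} (ha : a ∈ O z) (ha' : a ∈ O t) (hb : b ∈ O z) (hb' : b ∈ O t) : a * b = b * a :=
  mul_inv_eq_iff_eq_mul.1 ((M.lx.comm a ha b hb).elim id fun e => (M.lxt.comm a ha' b hb').resolve_right
    fun e' => M.ne.2 (mul_right_cancel (e'.symm.trans e)))

theorem w4_cm {i j : GolayPt} (h : i ≠ j) : ∃ a ∈ O t, a ∈ Cz z ∧ ∃ b ∈ O z, b ∈ Cz t ∧
    R (a * b * a⁻¹ * b⁻¹)⁻¹ (w4 i j 1 rfl) := by
  obtain ⟨c, d, hc, hd, e⟩ := exists_duad h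
  obtain ⟨a, ha, h1⟩ := M.exA (signC_mem_signG d hd)
  obtain ⟨b, hb⟩ := M.ex' ⟨_, vTwo_mem hc⟩
  refine ⟨a, ha, h1.1, b, M.mem hb, (M.Ct_iff hb).2 (by simp only [vTwo]; split_ifs <;> rfl), ?_⟩
  rw [← e, mul_inv_rev, inv_inv]
  exact M.mul hb (M.inv (M.neg (M.act h1 hb)))

theorem w4_mem {Y : Subgroup G} (hz : z ∈ Y) (hY : ∀ a ∈ O t, a ∈ Cz z → ∀ b ∈ O z, b ∈ Cz t →
    a * b * a⁻¹ * b⁻¹ ∈ Y) {i j : GolayPt} (h : i ≠ j) {e : G} (he : R e (w4 i j 1 rfl)) : e ∈ Y := by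
  obtain ⟨a, a1, a2, b, b1, b2, h1⟩ := M.w4_cm h
  rcases M.uniq h1 he with rfl | rfl
  exacts [inv_mem (hY a a1 a2 b b1 b2), mul_mem hz (inv_mem (hY a a1 a2 b b1 b2))]

theorem w4E {i j : GolayPt} (h : i ≠ j) {e : G} (he : R e (w4 i j 1 rfl)) : e ∈ O t :=
  let ⟨_, _, M'⟩ := M.symm
  M.w4_mem M'.tQ (fun _ a _ _ _ b => M'.cm b a) h he

theorem lab4 {q : G} (hq : q ∈ O z) (h : ∀ i j, i ≠ j → ∀ e, R e (w4 i j 1 rfl) → q * e = e * q) :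
    ∃ v, R q v ∧ ∀ i, (v : Vec) i % 4 = 0 := by
  obtain ⟨v, hv⟩ := M.ex q hq
  obtain ⟨w, hw⟩ := four_of_w4 (v := v) fun i j a =>
    let ⟨e, he⟩ := M.ex' (w4 i j 1 rfl); (M.comm_iff hv he).1 (h i j a e he)
  exact ⟨_, M.add_two hv w, hw⟩

theorem E_iff {q : G} (hq : q ∈ O z) : q ∈ O t ↔ ∃ v, R q v ∧ ∀ i, (v : Vec) i % 4 = 0 := by
  have k : ∀ q ∈ O z, q ∈ O t → ∃ v, R q v ∧ ∀ i, (v : Vec) i % 4 = 0 := fun q a b =>
    M.lab4 a fun i j c e he => M.commE a b (M.mem he) (M.w4E c he)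
  refine ⟨k q hq, fun ⟨v, hv, h4⟩ => ?_⟩
  have h1 := (ex_of_lx M.lx).card_cent (M := O z ⊓ O t) inf_le_left ⟨M.lx.mem, M.zO⟩
  have h2 := M.cE
  rw [h2, M.card] at h1
  have h3 : O z ⊓ O t = O z ⊓ centralizer (O z ⊓ O t : Subgroup G) :=
    eq_of_le_of_card_ge (fun a ha => ⟨ha.1, fun b hb => M.commE hb.1 hb.2 ha.1 ha.2⟩) (by omega)
  refine (h3.ge ⟨hq, fun b hb => ?_⟩).2
  obtain ⟨u, hu, u4⟩ := k b hb.1 hb.2
  exact (M.comm_iff hu hv).2 (dot44 u4 h4)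

theorem E_zt {q : G} (hq : q ∈ O z) : q ∈ O (z * t) ↔ q ∈ O t := (M.zt.E_iff hq).trans (M.E_iff hq).symm

theorem inner {x : G} (hx : x ∈ Cz z)
    (h : ∀ e ∈ O z, e ∈ O t → x * e * x⁻¹ = e ∨ x * e * x⁻¹ = z * e) : x ∈ O z := by
  obtain ⟨k, hk⟩ := PJ.ex (π := π) hx
  refine (M.ker' hk).1 (pm_of_w4 fun i j a => ?_)
  obtain ⟨e, he⟩ := M.ex' (w4 i j 1 rfl)
  have := M.act hk he
  rcases h e (M.mem he) (M.w4E a he) with c | c <;> rw [c] at this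
  exacts [M.congr he this, M.congr (M.zmul he) this]

theorem centA {x : G} (hx : x ∈ Cz z) (h : ∀ a ∈ O z, a ∈ Cz t → x * a * x⁻¹ = a) : x ∈ four z t := by
  have h1 := M.inner hx fun e a b => Or.inl (h e a (mem_Cz.2 (M.lxt.cen e b)))
  by_contra hn
  rw [M.mem_four] at hn
  push Not at hn
  obtain ⟨c, hc, e1, e2⟩ := lx_sep M.lx M.tQ h1 hn.1 hn.2.1 hn.2.2.1 hn.2.2.2
  rw [← mul_inv_eq_iff_eq_mul.1 (h c hc (mem_Cz.2 e1)), mul_inv_cancel_right] at e2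
  exact M.lx.ne (by simpa using e2.symm)

theorem fixE {e : G} (h1 : e ∈ O z) (h2 : e ∈ O t) {o : Finset GolayPt} (ho : IsCw o)
    (h : ∀ x ∈ Cz t, ∀ σ : M24, (σ : Equiv.Perm GolayPt) • o = o → PJ π x (permC σ) →
      e⁻¹ * (x * e * x⁻¹) ∈ four z t) : e ∈ four z t := by
  obtain ⟨v, hv, v4⟩ := (M.E_iff h1).1 h2
  refine M.centA (M.le h1) fun a a1 a2 => ?_
  obtain ⟨u, hu⟩ := M.ex a a1
  refine mul_inv_eq_iff_eq_mul.2 ((M.comm_iff hv hu).2 (dot_even v4 (fun d hd => ?_) ((M.Ct_iff hu).1 a2)))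
  refine fix_cocode v4 ho (fun σ hσ d hd => ?_) hd
  obtain ⟨x, hx, hp⟩ := M.exL (permC_mem_monoN σ)
  obtain ⟨b, hb⟩ := M.ex' ⟨_, vTwo_mem hd⟩
  have := four_comm (M.le (M.mem hb)) ((M.Ct_iff hb).2 (by simp only [vTwo]; split_ifs <;> rfl)) (h x hx σ hσ hp)
  refine (M.comm_iff (M.act hp hv) hb).symm.trans (Iff.trans ?_ (M.comm_iff hv hb))
  rw [← mul_inv_cancel_left e (x * e * x⁻¹), mul_assoc e, ← this, ← mul_assoc, ← mul_assoc b, mul_left_inj]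

theorem A_le {Y : Subgroup G} (h : ∀ x ∈ Cz z, x ∈ Cz t → ∀ a ∈ O z, a ∈ Cz t → x * a * x⁻¹ * a⁻¹ ∈ Y)
    {a : G} (a1 : a ∈ O z) (a2 : a ∈ Cz t) : a ∈ Y := by
  have hz : z ∈ Y := by
    obtain ⟨d, hd, d1, d2, -⟩ := exists_cw_pattern True False True True
    obtain ⟨b, hb⟩ := M.ex' (w4 none (some 0) 1 rfl)
    obtain ⟨c, hc⟩ := M.ex' ⟨_, vTwo_mem hd⟩
    have := h c (M.le (M.mem hc)) ((M.Ct_iff hc).2 (by simp only [vTwo]; split_ifs <;> rfl)) b (M.mem hb)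
      ((M.Ct_iff hb).2 rfl)
    rwa [(M.lx.comm c (M.mem hc) b (M.mem hb)).resolve_left fun e => by
      have := (M.comm_iff hc hb).1 (mul_inv_eq_iff_eq_mul.1 e)
      rw [dot_w4] at this
      simp [vTwo, d1, d2] at this, mul_inv_cancel_right] at this
  by_contra hn
  obtain ⟨q, hq, q1, q2⟩ := M.lx.sep (Y ⊓ O z) inf_le_right ⟨hz, M.lx.mem⟩ a a1 fun e => hn e.1
  have h4 := M.fixE hq ((M.E_iff hq).2 (M.lab4 hq fun i j c e he => q1 e ⟨M.w4_mem hz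
    (fun a b c => h a c (mem_Cz.2 (M.lxt.cen a b))) c he, M.mem he⟩)) isCw_empty fun x hx _ _ hp =>
    M.centA (mul_mem (inv_mem (M.le hq)) (M.le (M.norm hp.1 hq))) fun b b1 b2 => by
      have e := q1 _ ⟨h _ (inv_mem hp.1) (inv_mem hx) b b1 b2,
        (O z).mul_mem (M.norm (inv_mem hp.1) b1) (inv_mem b1)⟩
      have e2 : x * (q * b * q⁻¹ * b⁻¹) * x⁻¹ = q * b * q⁻¹ * b⁻¹ := by
        rcases M.lx.comm q hq b b1 with c | c <;> rw [c]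
        · simp
        · rw [mul_inv_cancel_right, conj_eq_of_Cz hp.1]
      have e3 : b * (q * b * q⁻¹ * b⁻¹) = q * b * q⁻¹ := by
        rcases M.lx.comm q hq b b1 with c | c <;> rw [c]
        · simp
        · rw [mul_inv_cancel_right, M.lx.cen b b1]
      calc _ = q⁻¹ * x * (q * (x⁻¹ * b * x⁻¹⁻¹ * b⁻¹)) * b * q⁻¹ * x⁻¹ * q := by group
        _ = q⁻¹ * (b * (x * (b⁻¹ * (q * b * q⁻¹)) * x⁻¹)) * q := by rw [e]; group
        _ = b := by rw [← e3, inv_mul_cancel_left, e2, e3]; group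
  rw [← four_comm (M.le a1) a2 h4, mul_inv_cancel_right] at q2
  exact M.lx.ne (by simpa using q2.symm)

theorem perfect {Y : Subgroup G} (h : ∀ x ∈ Cz z, x ∈ Cz t → ∀ y ∈ Cz z, y ∈ Cz t → x * y * x⁻¹ * y⁻¹ ∈ Y)
    {x : G} (x1 : x ∈ Cz z) (x2 : x ∈ Cz t) : x ∈ Y := by
  obtain ⟨π', R', M'⟩ := M.symm
  have h1 : ∀ k ∈ monoN, k ∈ pk π (Y ⊓ Cz t) := by
    rintro _ ⟨σ, c, hc, rfl⟩
    refine mul_mem ?_ ?_
    · obtain ⟨a, a1, a2⟩ := M.exA (signC_mem_signG c hc)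
      exact mem_pk.2 ⟨a, ⟨M'.A_le (fun x b c y d e => h x c b y e (M'.le d)) a1 a2.1, M'.le a1⟩, a2⟩
    · refine (show commutator M24 ≤ (pk π (Y ⊓ Cz t)).comap permHom from commutator_le.2 fun σ _ τ _ => ?_)
        (commutator_M24 ▸ mem_top σ)
      obtain ⟨a, a1, a2⟩ := M.exL (permC_mem_monoN σ)
      obtain ⟨b, b1, b2⟩ := M.exL (permC_mem_monoN τ)
      have := ((a2.mul b2).mul a2.inv).mul b2.inv
      refine mem_pk.2 ⟨_, ⟨h a a2.1 a1 b b2.1 b1,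
        (Cz t).mul_mem (mul_mem (mul_mem a1 b1) ((Cz t).inv_mem a1)) (inv_mem b1)⟩, this.congr ?_⟩
      rw [map_commutatorElement]; rfl
  obtain ⟨k, hk⟩ := PJ.ex (π := π) x1
  obtain ⟨y, hy, e⟩ := mem_pk.1 (h1 k (M.memL x2 hk))
  exact (Y.mul_mem_cancel_right (Y.inv_mem hy.1)).1 (M.A_le (fun x a b y c => h x a b y (M.le c))
    (M.of_eq hk e rfl) (mul_mem x2 ((Cz t).inv_mem hy.2)))

end MQ

end Cfsg.Agent.H8.MA
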