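import Cfsg.Agent.H8.MA.B

/-! The Monster amalgam: the graph of an isomorphism of the extraspecial groups (after `MON/CmC`). -/

set_option autoImplicit false
set_option linter.unusedSectionVars false

namespace Cfsg.Agent.H8.MA

open Subgroup H15 H97 MON.Cm
open CO1 hiding Th

variable {G0 G : Type*} [Group G0] [Group G] {O0 : G0 → Subgroup G0} {O : G → Subgroup G} {z0 t0 : G0}
  {π0 : Cz z0 →* Spor.Co1} {R0 : G0 → leechLattice → Prop}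
  {z t : G} {π : Cz z →* Spor.Co1} {R : G → leechLattice → Prop} {D : Subgroup (G0 × G)}

theorem exists_th' [Finite G0] [Finite G] {Q0 : Subgroup G0} {Q : Subgroup G} (M0 : RC (Cz z0) z0 Q0 π0 R0)
    (M : RC (Cz z) z Q π R) : ∃ D, Th z0 R0 z R D := by
  obtain ⟨N, ⟨h1, h2, h3⟩, hmax⟩ := (Set.toFinite {N : Subgroup (G0 × G) |
    (∀ p ∈ N, ∃ v, R0 p.1 v ∧ R p.2 v) ∧ (z0, z) ∈ N ∧ (1, z) ∉ N}).exists_maximal
    ⟨zpowers (z0, z), fun p hp => by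
      rcases (mem_zpowers_two (Prod.ext M0.lx.sq M.lx.sq)).1 hp with rfl | rfl
      exacts [⟨_, M0.two 0, M.two 0⟩, ⟨_, M0.zed, M.zed⟩], mem_zpowers _, fun hp => by
      rcases (mem_zpowers_two (Prod.ext M0.lx.sq M.lx.sq)).1 hp with e | e
      · exact M.lx.ne (congrArg Prod.snd e)
      · exact M0.lx.ne (congrArg Prod.fst e).symm⟩
  refine ⟨N, h1, fun a v ha => ?_, h2, h3⟩
  obtain ⟨b, hb⟩ := M.ex' v
  by_contra hn
  push Not at hn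
  have k1 : ∀ n ∈ N, (a, b) * n * (a, b)⁻¹ ∈ N := fun n hn => by
    obtain ⟨u, a1, a2⟩ := h1 n hn
    have e := (M0.comm_iff ha a1).trans (M.comm_iff hb a2).symm
    simp only [← mul_inv_eq_iff_eq_mul (b := n.1), ← mul_inv_eq_iff_eq_mul (a := a * n.1),
      ← mul_inv_eq_iff_eq_mul (a := b * n.2)] at e
    by_cases c : a * n.1 * a⁻¹ = n.1
    · convert hn using 1; exact Prod.ext c (e.1 c)
    · convert N.mul_mem h2 hn using 1
      exact Prod.ext ((M0.lx.comm a (M0.mem ha) _ (M0.mem a1)).resolve_left c)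
        ((M.lx.comm b (M.mem hb) _ (M.mem a2)).resolve_left (mt e.2 c))
  have k2 : (a, b) * (a, b) ∈ N := by
    have e := (M0.sq_iff ha).trans (M.sq_iff hb).symm
    by_cases c : a * a = 1
    · convert N.one_mem using 1; exact Prod.ext c (e.1 c)
    · convert h2 using 1
      exact Prod.ext ((M0.lx.sqr a (M0.mem ha)).resolve_left c) ((M.lx.sqr b (M.mem hb)).resolve_left (mt e.2 c))
  refine hn b (hmax (y := ext2 N (a, b) k1 k2) ⟨?_, Or.inl h2, ?_⟩ (fun n hn => Or.inl hn)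
    (Or.inr (by rw [mul_inv_cancel]; exact N.one_mem)))
  · rintro p (hp | hp)
    · exact h1 p hp
    · obtain ⟨u, a1, a2⟩ := h1 _ hp
      exact ⟨u + v, by simpa using M0.mul a1 ha, by simpa using M.mul a2 hb⟩
  · rintro (hp | hp)
    · exact h3 hp
    · refine hn (b * z⁻¹) ?_
      convert N.inv_mem hp using 1
      exact Prod.ext (by simp) (by simp)

section
variable {Q0 : Subgroup G0} {Q : Subgroup G} (M0 : RC (Cz z0) z0 Q0 π0 R0) (M : RC (Cz z) z Q π R)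
  (T : Th z0 R0 z R D)
include M0 M T

theorem th_lab {p : G0 × G} (hp : p ∈ D) {v : leechLattice} (h : R0 p.1 v) : R p.2 v := by
  obtain ⟨u, a1, a2⟩ := T.mem p hp
  obtain ⟨w, rfl⟩ := M0.congr a1 h
  exact M.add_two a2 w

theorem th_inj {b : G} (hb : (1, b) ∈ D) : b = 1 :=
  ((M.one_iff (th_lab M0 M T hb (M0.two 0))).2 ⟨0, rfl⟩).resolve_right fun e =>
    T.nz (by rwa [show b = z from e] at hb)

theorem th_dich {a : G0} {b : G} {v : leechLattice} (ha : R0 a v) (hb : R b v) :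
    (a, b) ∈ D ∨ (a, z * b) ∈ D := by
  obtain ⟨b0, h0⟩ := T.left a v ha
  rcases M.uniq hb (th_lab M0 M T h0 ha) with e | e
  exacts [Or.inl (e ▸ h0), Or.inr (e ▸ h0)]

theorem th_symm : Th z R z0 R0 (sw D) := by
  refine ⟨fun p hp => (T.mem _ hp).imp fun _ h => h.symm, fun b v hb => ?_, T.zz, fun h => T.nz ?_⟩
  · obtain ⟨a, ha⟩ := M0.ex' v
    rcases th_dich M0 M T ha hb with e | e
    · exact ⟨a, e⟩
    · exact ⟨z0 * a, by simpa [mem_sw, M.zz] using D.mul_mem T.zz e⟩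
  · simpa using D.mul_mem T.zz (D.inv_mem (mem_sw.1 h))

theorem th_lift [Finite G0] [Finite G] {c : G0} {d : G} {k : Co0} (hk : PJ π0 c k) (e : PJ π d k) :
    ∃ q ∈ Q, (c, d * q) ∈ normalizer (D : Set (G0 × G)) := by
  have hc := hk.1
  have hd := e.1
  have m2 : ∀ {p}, p ∈ D → p.2 ∈ Q := fun h => let ⟨_, _, a⟩ := T.mem _ h; M.mem a
  have l : ∀ {b}, b ∈ Q → ∃ a, (a, b) ∈ D := fun h => let ⟨v, a⟩ := M.ex _ h; (th_symm M0 M T).left _ v a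
  let K : Subgroup G :=
    { carrier := {b | ∃ a, (a, b) ∈ D ∧ (c * a * c⁻¹, d * b * d⁻¹) ∈ D}
      one_mem' := ⟨1, D.one_mem, by simp only [mul_one, mul_inv_cancel]; exact D.one_mem⟩
      mul_mem' := by
        rintro b b' ⟨a, h1, h2⟩ ⟨a', h1', h2'⟩
        exact ⟨a * a', D.mul_mem h1 h1', by rw [← conj_mul, ← conj_mul]; exact D.mul_mem h2 h2'⟩
      inv_mem' := by
        rintro b ⟨a, h1, h2⟩
        exact ⟨a⁻¹, D.inv_mem h1, by rw [← conj_inv, ← conj_inv]; exact D.inv_mem h2⟩ }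
  have k1 : ∀ n ∈ D, n.2 ∉ K → (c * n.1 * c⁻¹, z * (d * n.2 * d⁻¹)) ∈ D := fun n hn hM => by
    obtain ⟨v, a1, a2⟩ := T.mem n hn
    exact (th_dich M0 M T (M0.act hk a1) (M.act e a2)).resolve_left fun e1 => hM ⟨n.1, hn, e1⟩
  obtain ⟨q, hq, q1, q2⟩ := lx_rep M.lx (M := K) le_rfl (fun b ⟨_, hb, _⟩ => m2 hb)
    ⟨z0, T.zz, by rw [conj_eq_of_Cz hc, conj_eq_of_Cz hd]; exact T.zz⟩ fun b hb b' hb' h1 h2 => by
      obtain ⟨a, h3⟩ := l hb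
      obtain ⟨a', h4⟩ := l hb'
      refine ⟨a⁻¹ * a', D.mul_mem (D.inv_mem h3) h4, ?_⟩
      convert D.mul_mem (D.inv_mem (k1 _ h3 h1)) (k1 _ h4 h2) using 1
      exact Prod.ext (by simp [mul_assoc]) (by simp [mul_assoc])
  refine ⟨q, hq, mem_normalizer_fintype fun n hn => ?_⟩
  have e1 : (c, d * q) * n * (c, d * q)⁻¹ = (c * n.1 * c⁻¹, d * (q * n.2 * q⁻¹) * d⁻¹) :=
    Prod.ext rfl (by simp [mul_assoc])
  rw [e1]
  by_cases hM : n.2 ∈ K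
  · rw [q1 _ hM]
    obtain ⟨a, h1, h2⟩ := hM
    exact inv_mul_eq_one.1 (th_inj M M0 (th_symm M0 M T) (diff1 (H := sw D) (b := a) (b' := n.1) h1 hn)) ▸ h2
  · rw [q2 _ (m2 hn) hM, ← conj_mul, conj_eq_of_Cz hd]
    exact k1 n hn hM

theorem th_nD {b : G} (h : (1, b) ∈ normalizer (D : Set (G0 × G))) : b = 1 ∨ b = z :=
  M.lx.large b fun a ha => by
    obtain ⟨v, hv⟩ := M.ex a ha
    obtain ⟨a0, h0⟩ := (th_symm M0 M T).left a v hv
    have : (1 * a0 * 1⁻¹, b * a * b⁻¹) ∈ D := (mem_normalizer_iff.1 h (a0, a)).1 h0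
    rw [one_mul, inv_one, mul_one] at this
    exact mul_inv_eq_iff_eq_mul.1 (inv_mul_eq_one.1 (th_inj M0 M T (diff1 this h0)))

end

/-- the data to be compared -/
structure Ct (O0 : G0 → Subgroup G0) (O : G → Subgroup G) (z0 t0 : G0) (π0 : Cz z0 →* Spor.Co1)
    (R0 : G0 → leechLattice → Prop) (z t : G)
    (π : Cz z →* Spor.Co1) (R : G → leechLattice → Prop) (D : Subgroup (G0 × G)) : Prop
    extends Th z0 R0 z R D where
  M0 : MQ O0 z0 t0 π0 R0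
  M : MQ O z t π R
  tt : (t0, t) ∈ D

theorem exists_ct [Finite G0] [Finite G] (M0 : MQ O0 z0 t0 π0 R0) (M : MQ O z t π R) :
    ∃ t', (t' = t ∨ t' = z * t) ∧ ∃ D, Ct O0 O z0 t0 π0 R0 z t' π R D := by
  obtain ⟨D, h⟩ := exists_th' M0.toRC M.toRC
  rcases th_dich M0.toRC M.toRC h M0.rt M.rt with e | e
  exacts [⟨_, .inl rfl, D, h, M0, M, e⟩, ⟨_, .inr rfl, D, h, M0, M.zt, e⟩]

namespace Ct

variable (C : Ct O0 O z0 t0 π0 R0 z t π R D)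
include C

theorem lab {p : G0 × G} (hp : p ∈ D) {v : leechLattice} (h : R0 p.1 v) : R p.2 v := by
  obtain ⟨u, a1, a2⟩ := C.mem p hp
  obtain ⟨w, rfl⟩ := C.M0.congr a1 h
  exact C.M.add_two a2 w

theorem m1 {p : G0 × G} (hp : p ∈ D) : p.1 ∈ O0 z0 := let ⟨_, a, _⟩ := C.mem p hp; C.M0.mem a

theorem m2 {p : G0 × G} (hp : p ∈ D) : p.2 ∈ O z := let ⟨_, _, a⟩ := C.mem p hp; C.M.mem a

theorem left' {a : G0} (ha : a ∈ O0 z0) : ∃ b, (a, b) ∈ D := let ⟨v, h⟩ := C.M0.ex a ha; C.left a v h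

theorem inj1 {b : G} (hb : (1, b) ∈ D) : b = 1 :=
  ((C.M.one_iff (C.lab hb (C.M0.two 0))).2 ⟨0, rfl⟩).resolve_right fun e => C.nz (by rwa [show b = z from e] at hb)

theorem uniq {a : G0} {b b' : G} (h1 : (a, b) ∈ D) (h2 : (a, b') ∈ D) : b = b' :=
  inv_mul_eq_one.1 (C.inj1 (diff1 h1 h2))

theorem dich {a : G0} {b : G} {v : leechLattice} (ha : R0 a v) (hb : R b v) : (a, b) ∈ D ∨ (a, z * b) ∈ D := by
  obtain ⟨b0, h0⟩ := C.left a v ha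
  rcases C.M.uniq hb (C.lab h0 ha) with e | e
  exacts [Or.inl (e ▸ h0), Or.inr (e ▸ h0)]

theorem symm : Ct O O0 z t π R z0 t0 π0 R0 (sw D) := by
  refine ⟨⟨fun p hp => (C.mem _ hp).imp fun _ h => h.symm, fun b v hb => ?_, C.zz, fun h => C.nz ?_⟩, C.M, C.M0, C.tt⟩
  · obtain ⟨a, ha⟩ := C.M0.ex' v
    rcases C.dich ha hb with e | e
    · exact ⟨a, e⟩
    · exact ⟨z0 * a, by simpa [mem_sw, C.M.zz] using D.mul_mem C.zz e⟩
  · simpa using D.mul_mem C.zz (D.inv_mem (mem_sw.1 h))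

theorem zt : Ct O0 O z0 (z0 * t0) π0 R0 z (z * t) π R D := ⟨C.toTh, C.M0.zt, C.M.zt, D.mul_mem C.zz C.tt⟩

theorem ct {p : G0 × G} (hp : p ∈ normalizer (D : Set (G0 × G))) (h : p.1 ∈ Cz t0) : p.2 ∈ Cz t := by
  have : (p.1 * t0 * p.1⁻¹, p.2 * t * p.2⁻¹) ∈ D := (mem_normalizer_iff.1 hp _).1 C.tt
  rw [conj_eq_of_Cz h] at this
  exact Cz_of_conj (C.uniq this C.tt)

theorem mX {p : G0 × G} (hp : p ∈ D) (h : p.1 ∈ Cz t0) : p ∈ (XG z0 t0).prod (XG z t) :=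
  ⟨⟨C.M0.le (C.m1 hp), h⟩, C.M.le (C.m2 hp), C.ct (le_normalizer hp) h⟩

theorem nD1 {b : G} (h : (1, b) ∈ normalizer (D : Set (G0 × G))) : b = 1 ∨ b = z :=
  C.M.lx.large b fun a ha => by
    obtain ⟨a0, h0⟩ := C.symm.left' ha
    have : (1 * a0 * 1⁻¹, b * a * b⁻¹) ∈ D := (mem_normalizer_iff.1 h _).1 h0
    rw [one_mul, inv_one, mul_one] at this
    exact mul_inv_eq_iff_eq_mul.1 (C.uniq this h0)

variable [Finite G0] [Finite G]

theorem Tleft {x : G0} (hx : x ∈ XG z0 t0) :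
    ∃ y, (x, y) ∈ TT z0 t0 z t D ∧ (x, y) ∈ normalizer (D : Set (G0 × G)) := by
  obtain ⟨k, hk⟩ := PJ.ex (π := π0) hx.1
  obtain ⟨d, -, e⟩ := C.M.exL (C.M0.memL hx.2 hk)
  obtain ⟨q, hq, b⟩ := th_lift C.M0.toRC C.M.toRC C.toTh hk e
  exact ⟨_, Ctx.T_of_norm b ⟨hx, (Cz z).mul_mem e.1 (C.M.le hq), C.ct b hx.2⟩, b⟩

theorem Tright {y : G} (hy : y ∈ XG z t) : ∃ x, (x, y) ∈ TT z0 t0 z t D :=
  let ⟨x, a, _⟩ := C.symm.Tleft hy; ⟨x, TT_sw.1 a⟩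

theorem TD {p : G0 × G} (hp : p ∈ D) (h : p.1 ∈ Cz t0) : p ∈ TT z0 t0 z t D :=
  Ctx.T_of_norm (le_normalizer hp) (C.mX hp h)

theorem T1 {b : G} : (1, b) ∈ TT z0 t0 z t D ↔ b ∈ four z t := by
  refine ⟨fun h => C.M.centA h.2.2.1 fun a a1 a2 => ?_, fun h => mem_TT.2 ⟨⟨one_mem _, C.M.le (C.M.four_le h),
    Cz_symm (mem_Cz.2 (four_comm (mem_Cz.2 C.M.comm.symm) (mem_Cz.2 rfl) h))⟩, fun n a b => ?_⟩⟩
  · obtain ⟨a0, h0⟩ := C.symm.left' a1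
    have h1 := C.symm.mX h0 a2
    have : (1 * a0 * 1⁻¹, b * a * b⁻¹) ∈ D := (mem_TT.1 h).2 (a0, a) h0 ⟨h1.2, h1.1⟩
    rw [one_mul, inv_one, mul_one] at this
    exact C.uniq this h0
  · convert a using 1
    exact Prod.ext (by simp) (by simp [← four_comm b.2.1 b.2.2 h])

theorem T2 {a : G0} : (a, 1) ∈ TT z0 t0 z t D ↔ a ∈ four z0 t0 := TT_sw.symm.trans C.symm.T1

theorem Tz {p : G0 × G} (hp : p ∈ TT z0 t0 z t D) (h : p.1 ∈ O0 z0) : p.2 ∈ O z := by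
  obtain ⟨b, hb⟩ := C.left' h
  exact (mul_mem_cancel_left (inv_mem (C.m2 hb))).1
    (C.M.four_le (C.T1.1 (diff1 (C.TD hb hp.2.1.2) hp)))

theorem Tt {p : G0 × G} (hp : p ∈ TT z0 t0 z t D) (h : p.1 ∈ O0 t0) : p.2 ∈ O t := by
  obtain ⟨_, _, M'⟩ := C.M.symm
  refine M'.inner hp.2.2.2 fun e a b => ?_
  obtain ⟨e0, h0⟩ := C.symm.left' b
  obtain ⟨v, hv, v4⟩ := (C.M.E_iff b).1 a
  have h1 : e0 ∈ O0 t0 := (C.M0.E_iff (C.m1 h0)).2 ⟨v, C.symm.lab h0 hv, v4⟩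
  have h2 := C.symm.mX h0 (M'.le a)
  have h3 : (p.1 * e0 * p.1⁻¹, p.2 * e * p.2⁻¹) ∈ D := (mem_TT.1 hp).2 (e0, e) h0 ⟨h2.2, h2.1⟩
  refine (C.M0.lxt.comm _ h _ h1).imp (fun c => ?_) fun c => ?_ <;> rw [c] at h3
  exacts [C.uniq h3 h0, C.uniq h3 (D.mul_mem C.tt h0)]

theorem Tzt {p : G0 × G} (hp : p ∈ TT z0 t0 z t D) (h : p.1 ∈ O0 (z0 * t0)) : p.2 ∈ O (z * t) :=
  C.zt.Tt (by rwa [TT, XG_zt, XG_zt]) h

end Ct

end Cfsg.Agent.H8.MA
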