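import Cfsg.Agent.H8.MA.C

/-! The Monster amalgam: a pair interchanging `z` and `t` normalises the graph (after `MON/CmD`). -/

set_option autoImplicit false
set_option linter.unusedSectionVars false

namespace Cfsg.Agent.H8.MA

open Subgroup H15 H97 MON.Cm
open CO1 hiding Th
open scoped Pointwise

variable {G0 G : Type*} [Group G0] [Group G] {O0 : G0 → Subgroup G0} {O : G → Subgroup G} {z0 t0 s0 : G0}
  {π0 : Cz z0 →* Spor.Co1}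
  {R0 : G0 → leechLattice → Prop} {z t s : G} {π : Cz z →* Spor.Co1} {R : G → leechLattice → Prop}
  {D : Subgroup (G0 × G)}

/-- `s ∈ O t` interchanges `z` and `t z` -/
structure Sw (O : G → Subgroup G) (z t s : G) : Prop where
  mem : s ∈ O t
  cz : s * z * s⁻¹ = z * t

namespace MQ

variable [Finite G] (M : MQ O z t π R)
include M

theorem exists_swp : ∃ s, Sw O z t s :=
  let ⟨_, _, M'⟩ := M.symm; let ⟨s, a, b⟩ := M'.swap; ⟨s, a, b.trans M'.comm⟩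

theorem At {a : G} (ha : a ∈ O t) : a ∈ Cz t := mem_Cz.2 (M.lxt.cen a ha)

theorem t4 {a b : G} (ha : a ∈ O t) (hb : b ∈ O t) : b⁻¹ * (a⁻¹ * b * a) ∈ four z t := by
  have := M.lxt.comm _ (inv_mem ha) _ hb
  rw [inv_inv] at this
  rcases this with e | e <;> rw [e]
  · simp
  · rw [← M.lxt.cen b hb]; simp [right_mem_four]

omit [Finite G] in
theorem qX {q x : G} (hq : q ∈ O z) (hx : x ∈ XG z t) : q * x * q⁻¹ ∈ XG z t := by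
  refine ⟨(Cz z).mul_mem (mul_mem (M.le hq) hx.1) (inv_mem (M.le hq)), mem_Cz.2 ?_⟩
  rw [show t = q * (q⁻¹ * t * q⁻¹⁻¹) * q⁻¹ by group, conj_mul, conj_mul]
  rcases M.lx.comm _ (inv_mem hq) t M.tQ with e | e <;> rw [e]
  exacts [by rw [mem_Cz.1 hx.2], by rw [mem_Cz.1 (XG_zt.ge hx).2]]

variable (h : Sw O z t s)
include h

theorem s3 : s * (z * t) * s⁻¹ = z := by
  rw [← conj_mul, h.cz, conj_eq_of_Cz (M.At h.mem), mul_assoc, M.lxt.sq, mul_one]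

theorem sX {x : G} : x ∈ XG z t ↔ s⁻¹ * x * s ∈ XG z t :=
  mem_normalizer_iff''.1 (mem_normalizer_fintype (S := (XG z t : Set G)) fun x hx => ⟨mem_Cz.2 (by
    rw [← M.s3 h, conj_mul, conj_mul, mem_Cz.1 (XG_zt.ge hx).2]),
    (Cz t).mul_mem (mul_mem (M.At h.mem) hx.2) (inv_mem (M.At h.mem))⟩) x

theorem s4 {x : G} : x ∈ four z t ↔ s⁻¹ * x * s ∈ four z t :=
  mem_normalizer_iff''.1 (mem_norm_four (by rw [h.cz, M.mem_four]; tauto)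
    (by rw [conj_eq_of_Cz (M.At h.mem)]; exact right_mem_four z t)) x

theorem sz {x : G} : x ∈ O z ↔ s⁻¹ * x * s ∈ O (z * t) := by rw [← mem_cjs, ← M.cjO, M.s3 h]

theorem szt {x : G} : x ∈ O (z * t) ↔ s⁻¹ * x * s ∈ O z := by rw [← mem_cjs, ← M.cjO, h.cz]

theorem st {x : G} (hx : x ∈ Cz t) : x * (s⁻¹ * x * s)⁻¹ ∈ O t := by
  simpa only [mul_assoc, mul_inv_rev, inv_inv] using
    mul_mem (M.lxt.norm x (mem_Cz.1 hx) _ (inv_mem h.mem)) h.mem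

end MQ

namespace Ct

variable [Finite G0] [Finite G] (C : Ct O0 O z0 t0 π0 R0 z t π R D) (h0 : Sw O0 z0 t0 s0) (h : Sw O z t s)
include C h0 h

local notation "T" => TT z0 t0 z t D
local notation "U[" s "]" => cjs (s0, s) (TT z0 t0 z t D)

omit C h0 h in
theorem mem_U {a : G0} {b : G} : (a, b) ∈ U[s] ↔ (s0⁻¹ * a * s0, s⁻¹ * b * s) ∈ T := mem_cjs

omit h0 in
theorem U1 {b : G} : (1, b) ∈ U[s] ↔ b ∈ four z t := by
  rw [mem_U, C.M.s4 h, ← C.T1]; simp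

theorem UX {a : G0} {b : G} (hp : (a, b) ∈ U[s]) : a ∈ XG z0 t0 ∧ b ∈ XG z t :=
  ⟨(C.M0.sX h0).2 (mem_U.1 hp).2.1, (C.M.sX h).2 (mem_U.1 hp).2.2⟩

omit h in
theorem Uleft {x : G0} (hx : x ∈ XG z0 t0) : ∃ y, (x, y) ∈ U[s] :=
  let ⟨y, a, _⟩ := C.Tleft ((C.M0.sX h0).1 hx); ⟨s * y * s⁻¹, mem_U.2 (by simpa [mul_assoc] using a)⟩

theorem Uz {a : G0} {b : G} (hp : (a, b) ∈ U[s]) (ha : a ∈ O0 z0) : b ∈ O z :=
  (C.M.sz h).2 (C.Tzt (mem_U.1 hp) ((C.M0.sz h0).1 ha))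

theorem stepA {y0 : G0} {y y' : G} (a : (y0, y') ∈ U[s]) (b : (y0, y) ∈ T) : y' * y⁻¹ ∈ O t := by
  have h1 := C.Tt (pdiv b (mem_U.1 a)) (C.M0.st h0 b.2.1.2)
  simpa [mul_assoc] using mul_mem (C.M.st h (C.UX h0 h a).2.2) (inv_mem h1)

theorem stepB {b0 : G0} {b : G} (a : (b0, b) ∈ T) (hb : b ∈ O t) : (b0, b) ∈ U[s] := by
  have h1 := C.T2.2 (C.M0.t4 h0.mem (C.symm.Tt (TT_sw.2 a) hb))
  have h2 := C.T1.2 (C.M.t4 h.mem hb)
  exact mem_U.2 (by simpa using pmul (pmul a h1) h2)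

omit h in
theorem step2 : ∃ s, Sw O z t s ∧ ∀ y0 y' y, (y0, y') ∈ U[s] → (y0, y) ∈ T → y' * y⁻¹ ∈ O z := by
  obtain ⟨s, h⟩ := C.M.exists_swp
  let W : Subgroup (Co0 × Co0) :=
    { carrier := {p | ∃ y0 y' y, (y0, y') ∈ U[s] ∧ (y0, y) ∈ T ∧ PJ π y' p.1 ∧ PJ π y p.2}
      one_mem' := ⟨1, 1, 1, one_mem _, one_mem _, ⟨one_mem _, (map_one π).symm⟩, ⟨one_mem _, (map_one π).symm⟩⟩
      mul_mem' := by
        rintro p q ⟨_, _, _, a1, a2, a3, a4⟩ ⟨_, _, _, b1, b2, b3, b4⟩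
        exact ⟨_, _, _, pmul a1 b1, pmul a2 b2, a3.mul b3, a4.mul b4⟩
      inv_mem' := by
        rintro p ⟨_, _, _, a1, a2, a3, a4⟩
        exact ⟨_, _, _, pinv a1, pinv a2, a3.inv, a4.inv⟩ }
  obtain ⟨ε, hε, H⟩ := h1_mono W (by
      rintro p ⟨y0, y', y, a1, a2, a3, a4⟩
      exact ⟨C.M.memL a2.2.2.2 a4, C.M.memA (C.stepA h0 h a1 a2) (a3.mul a4.inv)⟩)
    (fun σ => by
      obtain ⟨y, a1, a2⟩ := C.M.exL (permC_mem_monoN σ)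
      obtain ⟨y0, a3⟩ := C.Tright ⟨a2.1, a1⟩
      obtain ⟨y', a4⟩ := C.Uleft (s := s) (x := y0) h0 a3.2.1
      obtain ⟨k, hk⟩ := PJ.ex (π := π) (C.UX h0 h a4).2.1
      exact ⟨(k, permC σ), ⟨y0, y', y, a4, a3, hk, a2⟩, 1, one_mem _, (one_mul _).symm⟩)
    (by
      rintro p ⟨y0, y', y, a1, a2, a3, a4⟩ hp
      obtain ⟨b, b1, b2⟩ := C.M.exA hp
      obtain ⟨b0, b3⟩ := C.Tright ⟨b2.1, C.M.At b1⟩
      have := C.Uz h0 h (pdiv a1 (C.stepB h0 h b3 b1)) (C.symm.Tz (TT_sw.2 (pdiv a2 b3)) (C.M.of_eq a4 b2 rfl))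
      rw [← co1_eq_iff, eq_comm, ← mul_inv_eq_one]
      exact (C.M.ker' (a3.mul b2.inv)).2 this)
  obtain ⟨a, a1, a2⟩ := C.M.exA hε
  refine ⟨a⁻¹ * s, ⟨mul_mem (inv_mem a1) h.mem, ?_⟩, fun y0 y' y b1 b2 => ?_⟩
  · calc _ = a⁻¹ * (s * z * s⁻¹) * a⁻¹⁻¹ := by group
      _ = _ := by rw [h.cz, conj_eq_of_Cz (inv_mem (XG_zt.ge ⟨a2.1, C.M.At a1⟩).2)]
  · have b3 : (y0, a * y' * a⁻¹) ∈ U[s] := mem_U.2 (by simpa [mul_assoc] using mem_U.1 b1)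
    obtain ⟨k, hk⟩ := PJ.ex (π := π) (x := y) b2.2.2.1
    obtain ⟨k', hk'⟩ := PJ.ex (π := π) (C.UX h0 h b3).2.1
    have e := H (k', k) ⟨_, _, _, b3, b2, hk', hk⟩
    have := (a2.inv.mul hk').mul a2
    rw [show a⁻¹ * (a * y' * a⁻¹) * a = y' by group] at this
    exact C.M.of_eq this hk (by simp only [QuotientGroup.mk_mul, QuotientGroup.mk_inv] at e ⊢; rw [e]; group)

variable (H : ∀ y0 y' y, (y0, y') ∈ cjs (s0, s) (TT z0 t0 z t D) → (y0, y) ∈ TT z0 t0 z t D → y' * y⁻¹ ∈ O z)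
include H

theorem step3 {y0 : G0} {y : G} (a : (y0, y) ∈ T) (b : y ∈ O z) : (y0, y) ∈ U[s] := by
  obtain ⟨y', a'⟩ := C.Uleft (s := s) (x := y0) h0 a.2.1
  obtain ⟨π', R', M'⟩ := C.M.symm
  obtain ⟨k, hk⟩ := PJ.ex (π := π') (x := y) a.2.2.2
  obtain ⟨o, ho, rfl⟩ := M'.memA b hk
  have e1 := H _ _ _ a' a
  have e2 := C.stepA h0 h a' a
  have f4 : four t z = four z t := by rw [four, four, Set.pair_comm]
  have key := M'.fixE e2 e1 ho fun x x1 σ hσ hp => by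
    obtain ⟨x0, b1⟩ := C.Tright ⟨x1, hp.1⟩
    obtain ⟨x', b2⟩ := C.Uleft (s := s) (x := x0) h0 b1.2.1
    have c1 := H _ _ _ b2 b1
    have c2 := C.stepA h0 h b2 b1
    have m2 : x * y * x⁻¹ * y⁻¹ ∈ O t := M'.of_eq ((hp.mul hk).mul hp.inv) hk (by
      rw [permC_conj_signC]; congr 2)
    have m1 := C.M.norm x1 b
    have d := (C.U1 h).1 (diff1 (C.stepB h0 h (pcm b1 a) m2) (pcm b2 a'))
    have f1 := C.M.norm x1 e1
    have f2 := M'.norm hp.1 e2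
    obtain ⟨e, rfl⟩ : ∃ e, y' = e * y := ⟨y' * y⁻¹, by group⟩
    obtain ⟨c, rfl⟩ : ∃ c, x' = c * x := ⟨x' * x⁻¹, by group⟩
    simp only [mul_inv_cancel_right] at *
    have g1 := C.M.commE c1 c2 f1 f2
    have g2 := C.M.commE (mul_mem m1 (inv_mem b)) m2 f1 f2
    have g3 := C.M.commE (inv_mem e1) (inv_mem e2) f1 f2
    rw [f4, g3]
    rcases C.M.lx.comm c c1 _ m1 with g | g
    · convert d using 1
      calc _ = (x * y * x⁻¹ * y⁻¹)⁻¹ * (x * y * x⁻¹ * y⁻¹ * (x * e * x⁻¹)) * e⁻¹ := by group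
        _ = (x * y * x⁻¹ * y⁻¹)⁻¹ * (x * e * x⁻¹ * c * (x * y * x⁻¹) * c⁻¹ * y⁻¹) * e⁻¹ := by
          rw [g2, mul_assoc _ c, mul_assoc _ (c * _), g]; group
        _ = _ := by rw [← g1]; group
    · refine (mul_mem_cancel_right (left_mem_four z t)).1 ?_
      convert d using 1
      have g4 := mem_Cz.1 (C.M.le (mul_mem (mul_mem m1 (inv_mem b)) (inv_mem e1)))
      calc _ = (x * y * x⁻¹ * y⁻¹)⁻¹ * (x * y * x⁻¹ * y⁻¹ * (x * e * x⁻¹)) * e⁻¹ * z := by group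
        _ = (x * y * x⁻¹ * y⁻¹)⁻¹ * (x * e * x⁻¹) * (x * y * x⁻¹ * y⁻¹ * e⁻¹ * z) := by rw [g2]; group
        _ = (x * y * x⁻¹ * y⁻¹)⁻¹ * (x * e * x⁻¹ * c * (x * y * x⁻¹) * c⁻¹ * y⁻¹) * e⁻¹ := by
          rw [g4, mul_assoc _ c, mul_assoc _ (c * _), g]; group
        _ = _ := by rw [← g1]; group
  rw [f4] at key
  refine add1 a' ((C.U1 h).2 ?_)
  have := four_comm (C.UX h0 h a').2.1 (C.UX h0 h a').2.2 (inv_mem key)
  rw [show y'⁻¹ * y = y'⁻¹ * (y' * y⁻¹)⁻¹ * y' by group, mul_assoc, ← this, inv_mul_cancel_left]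
  exact inv_mem key

theorem step3' {o0 : G0} {o : G} (a : (o0, o) ∈ U[s]) (b : o0 ∈ O0 (z0 * t0)) : (o0, o) ∈ T := by
  obtain ⟨y, a1, -⟩ := C.Tleft (C.UX h0 h a).1
  obtain ⟨k, hk⟩ := PJ.ex (π := π) (x := y) a1.2.2.1
  obtain ⟨c, c1, c2⟩ := C.M.exA (C.M.zt.memA (C.Tzt a1 b) hk)
  obtain ⟨c0, c3⟩ := C.Tright ⟨c2.1, C.M.At c1⟩
  have := pmul (C.step3 h0 h H (pdiv a1 c3) (C.M.of_eq hk c2 rfl)) (C.stepB h0 h c3 c1)
  rw [inv_mul_cancel_right, inv_mul_cancel_right] at this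
  exact add1 a1 (C.T1.2 ((C.U1 h).1 (diff1 this a)))

omit h0 h H in
theorem D_norm {p : G0 × G} (hp : p ∈ D) : p ∈ normalizer (T : Set (G0 × G)) := by
  have k : ∀ p ∈ D, ∀ x ∈ (XG z0 t0).prod (XG z t), p * x * p⁻¹ ∈ (XG z0 t0).prod (XG z t) :=
    fun p hp x hx => ⟨C.M0.qX (C.m1 hp) hx.1, C.M.qX (C.m2 hp) hx.2⟩
  refine mem_normalizer_fintype fun x hx => mem_TT.2 ⟨k p hp x hx.2, fun n a b => ?_⟩
  have := (mem_TT.1 hx).2 _ (mul_mem (mul_mem (inv_mem hp) a) (inv_mem (inv_mem hp))) (k _ (inv_mem hp) n b)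
  convert mul_mem (mul_mem hp this) (inv_mem hp) using 1
  group

theorem step4 {p : G0 × G} (hp : p ∈ D) : (s0, s) * p * (s0, s)⁻¹ ∈ normalizer (T : Set (G0 × G)) := by
  refine mem_normalizer_fintype fun ⟨x0, x⟩ hx => ?_
  obtain ⟨x', a⟩ := C.Uleft (s := s) (x := x0) h0 hx.2.1
  obtain ⟨⟨p0, p1⟩, e⟩ : ∃ r, r = (s0, s) * p * (s0, s)⁻¹ := ⟨_, rfl⟩
  have n : (p0 * x0 * p0⁻¹, p1 * x' * p1⁻¹) ∈ U[s] := by
    have := (mem_normalizer_iff.1 (C.D_norm hp) _).1 (mem_cjs.1 a)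
    refine mem_cjs.2 ?_
    convert this using 1
    rw [show (p0 * x0 * p0⁻¹, p1 * x' * p1⁻¹) = (p0, p1) * (x0, x') * (p0, p1)⁻¹ from rfl, e]
    group
  have b0 : p0 ∈ O0 (z0 * t0) := (C.M0.szt h0).2 (by simpa [show p0 = _ from congrArg Prod.fst e, mul_assoc] using C.m1 hp)
  have b1 : p1 ∈ O (z * t) := (C.M.szt h).2 (by simpa [show p1 = _ from congrArg Prod.snd e, mul_assoc] using C.m2 hp)
  obtain ⟨_, _, M0'⟩ := C.M0.zt.symm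
  obtain ⟨_, _, M'⟩ := C.M.zt.symm
  have c1 := H _ _ _ a hx
  have c2 := (C.M.E_zt c1).2 (C.stepA h0 h a hx)
  have m := M'.cm (XG_zt.ge hx.2.2).2 b1
  have hz : z * t ∈ four z t := mul_mem (left_mem_four z t) (right_mem_four z t)
  have n' := pdiv n a
  obtain ⟨c, rfl⟩ : ∃ c, x' = c * x := ⟨x' * x⁻¹, by group⟩
  rw [mul_inv_cancel_right] at c1 c2
  have k : (p1 * (c * x) * p1⁻¹ * (c * x)⁻¹)⁻¹ * (p1 * x * p1⁻¹ * x⁻¹) ∈ four z t := by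
    rw [show p1 * (c * x) * p1⁻¹ * (c * x)⁻¹ = p1 * c * p1⁻¹ * c⁻¹ * (c * (p1 * x * p1⁻¹ * x⁻¹) * c⁻¹) by group]
    have g := M'.lx.cen _ m
    generalize p1 * x * p1⁻¹ * x⁻¹ = u at m g
    rcases M'.lx.comm _ b1 _ c2 with g1 | g1 <;> rcases M'.lx.comm _ c2 _ m with g2 | g2 <;> rw [g1, g2]
    · simp
    · simpa [← g] using inv_mem hz
    · simpa [← g] using inv_mem hz
    · simp [M'.zz]
  have := pmul (C.step3' h0 h H (add1 n' ((C.U1 h).2 k)) (M0'.cm (XG_zt.ge hx.2.1).2 b0)) hx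
  rw [inv_mul_cancel_right, inv_mul_cancel_right] at this
  rw [← e]; exact this

end Ct

end Cfsg.Agent.H8.MA
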