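import Cfsg.Agent.H8.MA.D

/-! The Monster amalgam: the normalisers of the four-groups are isomorphic (after `MON/CmE`). -/

set_option autoImplicit false
set_option linter.unusedSectionVars false

namespace Cfsg.Agent.H8.MA

open Subgroup H15 H97 MON.Cm
open CO1 hiding Th
open scoped commutatorElement

variable {G0 G : Type*} [Group G0] [Group G] [Finite G0] [Finite G] {O0 : G0 → Subgroup G0} {O : G → Subgroup G}
  {z0 t0 q0 s0 : G0} {π0 : Cz z0 →* Spor.Co1}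
  {R0 : G0 → leechLattice → Prop} {z t q s : G} {π : Cz z →* Spor.Co1} {R : G → leechLattice → Prop}
  {D H : Subgroup (G0 × G)}

theorem MQ.tri (M : MQ O z t π R) (hq : q ∈ O z) (e : q * t * q⁻¹ = z * t) (h : Sw O z t s) :
    Tri z t q (q * (s * q * s⁻¹) * q⁻¹) ∧ q * (s * z * s⁻¹) * q⁻¹ = t := by
  have q1 := conj_eq_of_Cz (M.le hq)
  have q3 : q * (z * t) * q⁻¹ = t := by rw [← conj_mul, q1, e, M.zz]
  have s2 := conj_eq_of_Cz (M.At h.mem)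
  refine ⟨⟨M.lx.ne, M.ne.1, M.ne.2, M.lx.sq, M.lxt.sq, M.comm, fun _ => M.mem_four, q1, e, ?_, ?_⟩, by rw [h.cz, q3]⟩
  · have : q * (s * (z * t) * s⁻¹) * q⁻¹ = z := by rw [M.s3 h, q1]
    calc _ = q * (s * (q * (z * t) * q⁻¹) * s⁻¹) * q⁻¹ := by nth_rewrite 1 [← this]; group
      _ = _ := by rw [q3, s2, e]
  · have : q * (s * z * s⁻¹) * q⁻¹ = t := by rw [h.cz, q3]
    calc _ = q * (s * (q * z * q⁻¹) * s⁻¹) * q⁻¹ := by nth_rewrite 1 [← this]; group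
      _ = _ := by rw [q1, this]

namespace Ct

variable (C : Ct O0 O z0 t0 π0 R0 z t π R D)
include C

local notation "T" => TT z0 t0 z t D

theorem cm_le : ⁅T, T⁆ ≤ normalizer (D : Set (G0 × G)) := commutator_le.2 fun ⟨a, b⟩ h ⟨a', b'⟩ h' => by
  obtain ⟨y, a1, a2⟩ := C.Tleft (x := a) h.2.1
  obtain ⟨y', b1, b2⟩ := C.Tleft (x := a') h'.2.1
  have e1 := four_comm (k := b') h'.2.2.1 h'.2.2.2 (C.T1.1 (diff1 a1 h))
  have e2 := four_comm (k := y⁻¹) (inv_mem a1.2.2.1) (inv_mem a1.2.2.2) (C.T1.1 (diff1 b1 h'))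
  convert pcm a2 b2 using 1
  refine Prod.ext rfl ?_
  calc b * b' * b⁻¹ * b'⁻¹ = y * (y⁻¹ * b * b') * b⁻¹ * b'⁻¹ := by group
    _ = y * y' * (y'⁻¹ * b' * y⁻¹) * b'⁻¹ := by rw [← e1]; group
    _ = _ := by rw [← e2]; group

theorem DX_le {p : G0 × G} (hp : p ∈ D) (h : p.1 ∈ Cz t0) : p ∈ ⁅T, T⁆ := by
  obtain ⟨n, hn, e⟩ := C.M0.A_le (Y := (⁅T, T⁆ ⊓ D).map (MonoidHom.fst G0 G)) (fun x x1 x2 a a1 a2 => by
    obtain ⟨y, b1, b2⟩ := C.Tleft ⟨x1, x2⟩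
    obtain ⟨b, hb⟩ := C.left' a1
    exact ⟨_, ⟨commutator_mem_commutator b1 (C.TD hb a2),
      D.mul_mem ((mem_normalizer_iff.1 b2 _).1 hb) (inv_mem hb)⟩, rfl⟩) (C.m1 hp) h
  have : n = p := Prod.ext e (C.uniq (a := p.1) (e ▸ hn.2) hp)
  exact this ▸ hn.1

theorem psi : ∃ ψ : G0 → G, MulOn ψ (normalizer (four z0 t0 : Set G0)) ∧
    (∀ a ∈ normalizer (four z0 t0 : Set G0), ψ a = 1 → a = 1) ∧ ∀ p ∈ D, ψ p.1 = p.2 := by
  obtain ⟨q0, hq0, e0⟩ := C.M0.swap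
  obtain ⟨q, hq⟩ := C.left' hq0
  have e : q * t * q⁻¹ = z * t := C.uniq (e0 ▸ pdiv (pmul hq C.tt) hq) (pmul C.zz C.tt)
  obtain ⟨s0, h0⟩ := C.M0.exists_swp
  obtain ⟨s, h, H⟩ := C.step2 h0
  obtain ⟨hX, x1⟩ := C.M0.tri hq0 e0 h0
  obtain ⟨hG, g1⟩ := C.M.tri (C.m2 hq) e h
  have nn : ∀ g ∈ normalizer (T : Set (G0 × G)), g ∈ normalizer ((⁅T, T⁆ : Subgroup (G0 × G)) : Set (G0 × G)) :=
    fun g hg => mem_normalizer_fintype fun n hn =>
      (show ⁅T, T⁆ ≤ ⁅T, T⁆.comap (MulAut.conj g).toMonoidHom from commutator_le.2 fun a ha b hb => by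
        rw [mem_comap, map_commutatorElement]
        exact commutator_mem_commutator ((mem_normalizer_iff.1 hg a).1 ha) ((mem_normalizer_iff.1 hg b).1 hb)) hn
  have n1 := nn _ (C.D_norm hq)
  have n2 : (q0 * (s0 * q0 * s0⁻¹) * q0⁻¹, q * (s * q * s⁻¹) * q⁻¹) ∈ _ :=
    pdiv (pmul n1 (nn _ (C.step4 h0 h H hq))) n1
  obtain ⟨ψ, a1, a2, a3, a4⟩ := graph_of_tri (H := ⁅T, T⁆) hX hG (commutator_le.2 fun a ha b hb =>
      (mul_mem (mul_mem (mul_mem ha hb) (inv_mem ha)) (inv_mem hb) : _ ∈ T).2)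
    (fun a ha => by
      obtain ⟨p, hp, rfl⟩ := C.M0.perfect (Y := ⁅T, T⁆.map (MonoidHom.fst G0 G)) (fun x x1 x2 y y1 y2 => by
        obtain ⟨_, b1, -⟩ := C.Tleft ⟨x1, x2⟩
        obtain ⟨_, b2, -⟩ := C.Tleft ⟨y1, y2⟩
        exact ⟨_, commutator_mem_commutator b1 b2, rfl⟩) ha.1 ha.2
      exact ⟨p.2, hp⟩)
    (fun b hb => (C.nD1 (C.cm_le hb)).resolve_right fun c => by
      have := (mem_normalizer_iff.1 (pmul n1 n2) _).1 hb
      simp only [Prod.inv_mk, Prod.mk_mul_mk, mul_one, mul_inv_cancel, c, hG.g1] at this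
      exact (C.nD1 (C.cm_le this)).elim C.M.ne.1 C.M.ne.2)
    (fun b hb => (C.symm.nD1 (norm_sw (C.cm_le hb))).resolve_right fun c => by
      have := (mem_normalizer_iff.1 (pmul n1 n2) _).1 hb
      simp only [Prod.inv_mk, Prod.mk_mul_mk, mul_one, mul_inv_cancel, show b = z0 from c, hX.g1] at this
      exact (C.symm.nD1 (norm_sw (C.cm_le this))).elim C.M0.ne.1 C.M0.ne.2)
    n1 n2 (C.DX_le (D.mul_mem hq hq) (by
      rcases C.M0.lx.sqr q0 hq0 with c | c <;> rw [Prod.fst_mul, c]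
      exacts [one_mem _, mem_Cz.2 C.M0.comm]))
    (by
      have h2 := pmul hq hq
      rw [Prod.mk_mul_mk, conj_mul, conj_mul, conj_mul, conj_mul]
      rcases C.M0.lx.sqr q0 hq0 with c | c <;> rw [c] at h2 ⊢
      · rw [C.inj1 h2]; simp only [mul_one, mul_inv_cancel]; exact one_mem _
      · rw [C.uniq h2 C.zz, x1, g1]; exact C.DX_le C.tt (mem_Cz.2 rfl))
    (fun y hy h => C.M.centA hy.1 fun a a1 a2 => by
      obtain ⟨a0, b⟩ := C.symm.left' a1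
      exact h (a0, a) (C.DX_le b (C.symm.mX b a2).2.2))
  refine ⟨ψ, a1, a2, fun p hp => ?_⟩
  rcases hX.cover1 (mem_norm_four (x := p.1) (by rw [conj_eq_of_Cz (C.M0.le (C.m1 hp))]; exact left_mem_four _ _) (by
    rcases C.M0.lx.comm _ (C.m1 hp) _ C.M0.tQ with c | c <;> rw [c, hX.four] <;> tauto))
    (C.M0.le (C.m1 hp)) with c | c
  · exact a4 p (C.DX_le hp c.2)
  · have := a4 _ (C.DX_le (pmul (pinv hq) hp) c.2)
    rw [← mul_inv_cancel_left q0 p.1, a1 _ hX.q_mem _ (hX.K_le c), a3, this, mul_inv_cancel_left]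

end Ct

end Cfsg.Agent.H8.MA
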