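import Cfsg.Agent.H8.MA.A

/-! Vectors of shape `(±4⁴, 0²⁰)`. -/

set_option autoImplicit false

namespace Cfsg.Agent.H8.MA

open Subgroup H15

/-- shape `(±4⁴, 0²⁰)` -/
def Sx (v : leechLattice) : Prop :=
  sqNorm (v : Vec) = 64 ∧ ∀ i, (v : Vec) i = 0 ∨ (v : Vec) i = 4 ∨ (v : Vec) i = -4

theorem Sx.std {v : leechLattice} (h : Sx v) : ∃ k ∈ monoN, ∀ i, ((k • v : leechLattice) : Vec) i =
    if i ∈ ({none, some 0, some 1, some 2} : Finset GolayPt) then 4 else 0 := by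
  have h4 : (Finset.univ.filter fun i => (v : Vec) i ≠ 0).card = 4 := by
    have := h.1
    rw [sqNorm, Finset.sum_congr rfl (g := fun i => if (v : Vec) i ≠ 0 then 16 else 0) fun i _ => by
      rcases h.2 i with e | e | e <;> simp [e], ← Finset.sum_filter, Finset.sum_const] at this
    simp only [nsmul_eq_mul] at this
    omega
  obtain ⟨a, b, c, d, ab, ac, ad, bc, bd, cd, e⟩ := Finset.card_eq_four.1 h4
  have hm : ∀ i, (v : Vec) i ≠ 0 ↔ i = a ∨ i = b ∨ i = c ∨ i = d := fun i => by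
    simpa using Finset.ext_iff.1 e i
  obtain ⟨σ, h1, h2, h3, h5⟩ := exists_perm4 (a' := none) (b' := some 0) (c' := some 1)
    (d' := some 2) ab ac ad bc bd cd (by decide) (by decide) (by decide) (by decide) (by decide) (by decide)
  obtain ⟨C, hC, p1, p2, p3, p4⟩ := exists_cw_pattern ((v : Vec) a ≠ 4) ((v : Vec) b ≠ 4)
    ((v : Vec) c ≠ 4) ((v : Vec) d ≠ 4)
  refine ⟨signC C hC * permC σ, ⟨σ, C, hC, rfl⟩, fun i => ?_⟩
  obtain ⟨i, rfl⟩ := (σ : Equiv.Perm GolayPt).surjective i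
  have key : ∀ q, (v : Vec) i ≠ 0 → (q ∈ C ↔ (v : Vec) i ≠ 4) →
      (if q ∈ C then -(v : Vec) i else (v : Vec) i) = 4 := fun q a b => by
    rcases h.2 i with e | e | e <;> simp [e] at a b ⊢ <;> simp [b]
  rw [mul_smul, signC_apply, permC_apply']
  by_cases n : (v : Vec) i = 0
  · rw [n, neg_zero, ite_self, if_neg]
    rw [← h1, ← h2, ← h3, ← h5]
    simpa [← hm] using n
  · rcases (hm i).1 n with rfl | rfl | rfl | rfl
    · rw [h1, key _ n p1]; rfl
    · rw [h2, key _ n p2]; rfl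
    · rw [h3, key _ n p3]; rfl
    · rw [h5, key _ n p4]; rfl

theorem Sx.trans {v w : leechLattice} (h : Sx v) (h' : Sx w) : ∃ k ∈ monoN, k • v = w := by
  obtain ⟨k, a, b⟩ := h.std
  obtain ⟨l, c, d⟩ := h'.std
  exact ⟨l⁻¹ * k, mul_mem (inv_mem c) a, by
    rw [mul_smul, inv_smul_eq_iff]; exact Subtype.ext (funext fun i => (b i).trans (d i).symm)⟩

variable {G : Type*} [Group G]

/-- `g` maps the generators of `⟨z, t, a⟩` into this group -/
def NW (z t a g : G) : Prop := ∀ x ∈ ({z, t, a} : Set G), g * x * g⁻¹ ∈ closure ({z, t, a} : Set G)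

/-- what the third member of the amalgam is needed for -/
def Good (C N : Subgroup G) (z t : G) (R : G → leechLattice → Prop) : Prop :=
  ∀ a v, R a v → Sx v → ∀ s ∈ C, ∀ c ∈ N, NW z t a s → NW z t a c → Commute ((s * c) ^ 3) z → (s * c) ^ 3 ∈ C

end Cfsg.Agent.H8.MA
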