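import Cfsg.Agent.H8.MA.F1
import Cfsg.Agent.H8.MA.S

/-! The construction of `σ` inside a subgroup `C` (after `MON/SigA`). -/

set_option autoImplicit false

namespace Cfsg.Agent.H8.MA

open Cfsg.Agent.H14 Cfsg.Agent.H15 Equiv Subgroup MON MON.OrdB
open MON.SigA hiding labs labs_two labs_val

variable {G : Type*} [Group G] {C : Subgroup G} {π : C →* Spor.Co1} {R : G → leechLattice → Prop}

section
variable {z : G} {Q : Subgroup G}

/-- the labels of the elements of `H` -/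
def labs (M : RC C z Q π R) (H : Subgroup G) : AddSubgroup Vec where
  carrier := {x | ∃ v : leechLattice, (v : Vec) = x ∧ ∃ b ∈ H, R b v}
  zero_mem' := ⟨0, rfl, 1, H.one_mem, by simpa using M.two 0⟩
  add_mem' := by
    rintro _ _ ⟨v, rfl, b, hb, h⟩ ⟨v', rfl, b', hb', h'⟩
    exact ⟨v + v', rfl, b * b', H.mul_mem hb hb', M.mul h h'⟩
  neg_mem' := by
    rintro _ ⟨v, rfl, b, hb, h⟩
    exact ⟨-v, rfl, b, hb, M.neg h⟩

theorem labs_two (M : RC C z Q π R) (H : Subgroup G) : ∀ u ∈ leechLattice, u + u ∈ labs M H :=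
  fun u hu => ⟨⟨u, hu⟩ + ⟨u, hu⟩, rfl, 1, H.one_mem, M.two _⟩

theorem labs_val {M : RC C z Q π R} {H : Subgroup G} {v : leechLattice} (h : (v : Vec) ∈ labs M H) :
    ∃ b ∈ H, R b v := by
  obtain ⟨w, e, h⟩ := h
  rwa [Subtype.ext e] at h

end

/-- `MON.Pre` relative to a subgroup `C` -/
structure PC (C : Subgroup G) (φ : N →* G) (π : C →* Spor.Co1) (R : G → leechLattice → Prop) : Prop where
  k0 : ∀ g : N, (g : Equiv.Perm Pt) ∈ K0 → φ g = 1
  inj : ∀ g : N, φ g = 1 → (g : Equiv.Perm Pt) ∈ K0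
  M : RC C (zG φ) (Qm.map φ) π R
  sur : Function.Surjective π
  hx : ∀ (d : PL) (v : leechLattice), (v : GolayPt → ℤ) = H15.vTwo (bits (cw d)) → R (φ (ofP (xP d))) v
  hd : ∀ (i : GolayPt) (v : leechLattice), ((v : GolayPt → ℤ) = fun j => if j = i then -3 else 1) →
      R (φ (ofP (dl (coc (2 ^ idx i))))) v
  nx : ∀ g : N, φ g * zG φ = zG φ * φ g → φ g ∈ C
  good : Good C φ.range (zG φ) (sgG φ 12288) R

variable {φ : N →* G}

theorem PC.Nx_le (H : PC C φ π R) : Nx.map φ ≤ C := fun x hx =>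
  let ⟨g, _, e⟩ := hx; e ▸ H.nx g (e ▸ mem_centralizer_singleton_iff.1 (SigA.Nx_le hx))

/-- the image of `N_x` in `Co₀` is the monomial group -/
theorem PC.pk_Nx (H : PC C φ π R) (h8 : R (sgG φ 12288) (e8 none)) : MA.pk π (Nx.map φ) = monoN := by
  have M := H.M
  have := finite_Co0
  have h1 : MA.pk π (Nx.map φ) ≤ monoN := fun k hk => by
    obtain ⟨_, ⟨g, hg, rfl⟩, hc⟩ := mem_pk.1 hk
    have h := M.act hc h8
    rw [sgG, ← map_inv, ← map_mul, ← map_mul] at h
    refine (mem_monoN_iff_congr none).2 ?_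
    rcases (Nx_conj hg).2 with a | a <;> rw [a] at h
    · exact M.congr h8 h
    · refine M.congr (M.zmul h8) ?_
      rwa [zG, sgG_mul (by decide) (by decide)]
  refine eq_of_le_of_card_ge h1 ?_
  have h2 := M.card_pk H.Nx_le
  rw [inf_eq_right.2 (map_mono Qm_le), M.card] at h2
  have h3 := (φ.ker.subgroupOf Nx).card_mul_index
  have h4 : Nat.card (φ.ker.subgroupOf Nx) ≤ 4 := by
    have : Finite K0 := inferInstance
    refine le_trans (Nat.card_le_card_of_injective (β := K0)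
      (fun x => ⟨x.1.1.1, H.inj _ x.2⟩) fun x y e => ?_) card_K0
    exact Subtype.ext (Subtype.ext (Subtype.ext (Subtype.ext_iff.1 e :)))
  rw [show (φ.ker.subgroupOf Nx).index = Nat.card (Nx.map φ) from relIndex_ker Nx φ, card_Nx] at h3
  rw [card_monoN']
  nlinarith

theorem PC.sa (H : PC C φ π R) : ∃ σ, SC C φ σ := by
  have M := H.M
  have hx := H.hx
  have hd := H.hd
  have hi : ∀ i, R (φ (ofP (dl (ci i)))) (vi i) := fun i => hd i (vi i) rfl
  have hl : ∀ j < 24, ∃ v : leechLattice, (v : Vec) = lab j ∧ R (φ (el (Qc j))) v := fun j hj => by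
    by_cases h : j < 12
    · refine ⟨⟨_, vTwo_mem (isCw_bits (A.enc_cw (pl (2 ^ j))))⟩, funext fun p => ?_,
        (el_x h).2 ▸ hx _ _ rfl⟩
      simp only [vTwo, lab, mem_bits, if_pos h, pl_val (pow_lt13 h)]
    by_cases h' : j = 23
    · subst h'
      exact ⟨vi (pt 11), by decide +kernel, el_d.2 ▸ hi _⟩
    · obtain ⟨i, rfl⟩ := Nat.exists_eq_add_of_le (not_lt.1 h)
      have hi' : i < 11 := by omega
      refine ⟨vi (pt i) + -vi (pt 11), ?_, ?_⟩
      · clear h h' hj; revert i; decide +kernel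
      · rw [(el_s hi').2, map_mul]
        exact M.mul (hi _) (M.neg (hi _))
  have hQ : ∀ j < 24, φ (el (Qc j)) ∈ Qm.map φ := fun j hj => let ⟨_, _, h⟩ := hl j hj; M.mem h
  have hev : ∀ m, ∀ n ≤ 24, InN (ev m n) ∧
      ∃ v : leechLattice, (v : Vec) = sv m n ∧ R (φ (el (ev m n))) v := fun m n hn => by
    induction n with
    | zero => exact ⟨inN_one, 0, rfl, by simpa [ev, el_one] using M.two 0⟩
    | succ n ih =>
      obtain ⟨h1, v, e, h2⟩ := ih (by omega)
      obtain ⟨w, e', h3⟩ := hl n (by omega)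
      rw [ev_succ, sv]
      split_ifs
      · exact ⟨h1.cm (inN_Qc hn), v + w, by rw [← e, ← e']; rfl,
          by rw [ph_cm H.k0 h1 (inN_Qc hn)]; exact M.mul h2 h3⟩
      · exact ⟨h1, v, e, h2⟩
  obtain ⟨ξ, hξ, hxi⟩ := exists_xi
  have hP : ∀ σ y, PJ π σ ξ → y ∈ Qm.map φ → PJ π (σ * y) ξ := fun σ y h hy => by
    simpa using h.mul (M.pj_Q hy)
  have hm : ∀ i, (i + 12) % 24 < 24 := fun i => Nat.mod_lt _ (by norm_num)
  obtain ⟨σ, hσ, hal⟩ := adjust (fun σ => PJ π σ ξ) M.ex0.sq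
    (fun i => φ (el (Qc ((i + 12) % 24)))) (fun i => φ (el (Ac ((i + 12) % 24))))
    (fun i => φ (el (Qc i))) 24 (let ⟨c, e⟩ := H.sur ξ; ⟨c, c.2, e.symm⟩)
    (fun σ h => M.cz σ h.1)
    (fun σ h i _ => by
      obtain ⟨v, e, h1⟩ := hl _ (hm i)
      obtain ⟨-, w, e', h2⟩ := hev (MK ((i + 12) % 24)) 24 le_rfl
      obtain ⟨u, hu⟩ := hxi _ (hm i) v w e e'
      rw [ev_MK _ (hm i)] at h2
      exact M.uniq (M.add_two h2 u) (hu ▸ M.act h h1))
    (fun σ h i hi => hP σ _ h (hQ i hi))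
    (fun i hi => by
      have a := inN_Qc hi
      refine ⟨?_, fun j hj => ?_⟩
      · have b := inN_Qc (hm i)
        rw [← ph_cm H.k0 a b, ← ph_cm H.k0 b a, ← ph_z, ← ph_cm H.k0 el_z.1 (b.cm a), (cm_dual i hi).1]
      · have b := inN_Qc (hm j)
        rw [← ph_cm H.k0 a b, ← ph_cm H.k0 b a, (cm_dual i hi).2 j hj])
  have hlab : ∀ g : G, ∀ j < 24, g * φ (el (Qc j)) = φ (el (Qc j)) * g →
      lab j ∈ labs M (centralizer {g}) := fun g j hj h =>
    let ⟨v, e, h1⟩ := hl j hj; ⟨v, e, _, mem_centralizer_singleton_iff.2 h.symm, h1⟩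
  have h8 : R (sgG φ 12288) (e8 none) ∧ φ (el (Qc 11)) = sgG φ 12288 := by
    obtain ⟨v, e, h⟩ := hl 11 (by norm_num)
    have s := el_eq (sg_mem_N (f := 12288) (by decide)) (code_sg _)
    have t := ph_cm H.k0 (inN_Qc (j := 11) (by norm_num)) s.1
    rw [cm_om, ph_one, s.2] at t
    have := M.add_two (M.inv h) (-vi none)
    rw [inv_eq_of_mul_eq_one_right t.symm, show v + (-vi none + -vi none) = e8 none from
      Subtype.ext (by rw [AddSubgroup.coe_add, e]; decide +kernel)] at this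
    exact ⟨this, mul_right_cancel (t.symm.trans (sgG_sq (by decide)).symm)⟩
  have al : ∀ x ∈ DP.drop 12, σ * φ (el x.1) * σ⁻¹ = φ (el x.2) := fun x hx => by
    obtain ⟨j, hj, rfl⟩ := mem_drop x hx
    by_cases h : j = 24
    · rw [h, Qc_z, Ac_z, ph_z, M.cjz hσ.1]
    · have := hal ((j + 12) % 24) (hm j)
      rwa [show ((j + 12) % 24 + 12) % 24 = j by omega] at this
  have he : ∀ e, e = 1 ∨ e = φ (el cZ) → e ∈ Qm.map φ ∧ ∀ a ∈ Qm.map φ, e * a * e⁻¹ = a := by
    rintro e (rfl | rfl)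
    · exact ⟨one_mem _, fun a _ => by simp⟩
    · rw [ph_z]
      exact ⟨M.ex0.mem, fun a ha => by rw [← M.ex0.cen a ha, mul_inv_cancel_right]⟩
  refine ⟨σ, H.k0, H.inj, al, fun g gC hg => ?_, fun g hc hg x hx => ?_, fun e he' c hc => ?_, hσ.1,
    fun g hg => H.nx g (ph_z (φ := φ) ▸ hg.symm), fun e he' => ?_⟩
  · rw [ph_z]
    refine M.large g gC fun a ha => ?_
    obtain ⟨v, hv⟩ := M.ex a ha
    obtain ⟨b, hb, h⟩ := labs_val (leech_le (labs_two M _)
      (fun j hj => hlab g j hj (hg _ (drop_mem j (by omega)))) v.2)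
    have h1 := mem_centralizer_singleton_iff.1 hb
    rcases M.uniq h hv with e | e <;> rw [e]
    · exact h1.symm
    · rw [← mul_assoc, M.cz g gC, mul_assoc, ← h1, mul_assoc]
  · rw [ph_z]
    obtain ⟨k, hk⟩ := PJ.ex (π := π) hc
    have h4 := four_mem (labs_two M _) fun j hj hj' => hlab g j (by omega) (hg _ (take_mem j hj hj'))
    have hg' : g ∈ Qm.map φ := (M.ker' hk).1 (Cm.pm_of_w4 fun i j _ => by
      obtain ⟨b, hb, h⟩ := labs_val (v := w4 i j 1 rfl) (by
        convert sub_mem (add_mem (h4 i) (h4 j)) (h4 none) using 1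
        simp only [w4, vFour, mul_one]; abel)
      have := M.act hk h
      rw [← mem_centralizer_singleton_iff.1 hb, mul_inv_cancel_right] at this
      exact M.congr h this)
    obtain ⟨j, hj, rfl⟩ := mem_drop x hx
    have hq : φ (el (Qc j)) ∈ Qm.map φ := by
      by_cases h : j = 24
      · rw [h, Qc_z, ph_z]; exact M.ex0.mem
      · exact hQ j (by omega)
    exact (M.ex0.comm g hg' _ hq).imp mul_inv_eq_iff_eq_mul.1 mul_inv_eq_iff_eq_mul.1
  · have h2 := hP σ e hσ (he e he').1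
    have ht : MA.pk π (CC φ (σ * e)) = ⊤ := isCoatom_monoN.2 _ (lt_of_le_of_ne
      (H.pk_Nx h8.1 ▸ pk_mono le_sup_right) fun a =>
        hξ (a ▸ mem_pk.2 ⟨_, mem_sup_left (subset_closure rfl), h2⟩))
    obtain ⟨k, hk⟩ := PJ.ex (π := π) hc
    obtain ⟨d, hd, hd'⟩ := mem_pk.1 (ht ▸ mem_top k)
    exact (mul_mem_cancel_right (inv_mem hd)).1 (mem_sup_right (map_mono Qm_le (M.of_eq hk hd' rfl)))
  · obtain ⟨ia, v, e1, e2⟩ := hev 61440 24 le_rfl
    rw [show ev 61440 24 = SB.wa by decide +kernel] at ia e2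
    have i11 := inN_Qc (j := 11) (by norm_num)
    have iT := SB.inT
    have cj : ∀ {a b}, InN a → InN b → cm cT a = cm b cT → φ (el cT) * φ (el a) * (φ (el cT))⁻¹ = φ (el b) :=
      fun a b h => by rw [← ph_cm H.k0 iT a, h, ph_cm H.k0 b iT, mul_inv_cancel_right]
    have m1 : zG φ ∈ closure {zG φ, sgG φ 12288, φ (el SB.wa)} := subset_closure (by simp)
    have m2 : sgG φ 12288 ∈ closure {zG φ, sgG φ 12288, φ (el SB.wa)} := subset_closure (by simp)
    have m3 : φ (el SB.wa) ∈ closure {zG φ, sgG φ 12288, φ (el SB.wa)} := subset_closure (by simp)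
    have m4 : φ (el (cm (Qc 11) SB.wa)) ∈ closure {zG φ, sgG φ 12288, φ (el SB.wa)} := by
      rw [ph_cm H.k0 i11 ia, h8.2]; exact mul_mem m2 m3
    rw [ph_z]
    refine H.good _ _ (M.add_two e2 (-e8 (pt 11))) ?_ _ (hP σ e hσ (he e he').1).1 _ ⟨_, rfl⟩ ?_ ?_
    · rw [Sx, AddSubgroup.coe_add, e1]
      decide +kernel
    · have k : ∀ a ∈ Qm.map φ, σ * e * a * (σ * e)⁻¹ = σ * a * σ⁻¹ := fun a ha => by
        conv_rhs => rw [← (he e he').2 a ha]
        group
      rintro _ (rfl | rfl | rfl)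
      · rw [(k _ M.ex0.mem).trans (M.cjz hσ.1)]
        exact m1
      · have : σ * φ (el (Qc 11)) * σ⁻¹ = φ (el (Ac 11)) := al _ (drop_mem 11 (by norm_num))
        rw [h8.2, show Ac 11 = cm (Qc 11) SB.wa by decide +kernel] at this
        rwa [k _ (M.mem h8.1), this]
      · have q : ∀ j < 24, σ * φ (el (Qc j)) * σ⁻¹ = φ (el (Ac j)) := fun j hj => al _ (drop_mem j (by omega))
        have ia' : ∀ j < 24, InN (Ac j) := fun j hj =>
          (inN_DP _ (List.mem_of_mem_drop (drop_mem j (by omega)))).2.1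
        have i := fun j => inN_Qc (j := j)
        rw [k _ (M.mem e2)]
        convert m3 using 1
        calc _ = σ * φ (el (cm (cm (cm (Qc 12) (Qc 13)) (Qc 14)) (Qc 15))) * σ⁻¹ := by
              rw [show cm (cm (cm (Qc 12) (Qc 13)) (Qc 14)) (Qc 15) = SB.wa by decide +kernel]
          _ = φ (el (cm (cm (cm (Ac 12) (Ac 13)) (Ac 14)) (Ac 15))) := by
              simp (disch := first | omega | (repeat' first | apply InN.cm | apply i | apply ia' | omega)) only
                [ph_cm H.k0, ← q, conj_mul]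
          _ = _ := by rw [show cm (cm (cm (Ac 12) (Ac 13)) (Ac 14)) (Ac 15) = SB.wa by decide +kernel]
    · rintro _ (rfl | rfl | rfl)
      · rw [← ph_z, cj el_z.1 (el_z.1.cm i11) (by decide +kernel), ph_cm H.k0 el_z.1 i11, ph_z, h8.2]
        exact mul_mem m1 m2
      · have := cj i11 i11 (by decide +kernel)
        rw [h8.2] at this
        rwa [this]
      · rwa [cj ia (i11.cm ia) (by decide +kernel)]

end Cfsg.Agent.H8.MA
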