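import Cfsg.Agent.H8.MA.A
import Cfsg.Agent.H8.MA.G1
import Cfsg.Agent.H55.OutCo1
import Cfsg.Agent.H15.Monster5

/-! Subgroups of `2^(1+24).Co1` normalised by an element of order 23 or by sign changes. -/

set_option autoImplicit false

namespace Cfsg.Agent.H8.MA.RC

open Subgroup H15 MON.Cm

variable {G : Type*} [Group G] {C : Subgroup G} {z : G} {Q : Subgroup G} {π : C →* Spor.Co1}
  {R : G → leechLattice → Prop} (M : RC C z Q π R) {g : G}
include M

theorem frame23 (hg : g ∈ C) (h1 : g ^ 23 = 1) (h2 : g ∉ Q) :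
    ∃ (j : ℤ) (k : Co0), PJ (tw π k) (g ^ j) (permC s23) := by
  have : Fact (Nat.Prime 23) := ⟨by norm_num⟩
  have := finite_Co0
  obtain ⟨j, hj⟩ := exists_isConj_zpow (K := Spor.Co1) (p := 23) (by norm_num)
    (by rw [show Nat.card Spor.Co1 = _ from card_Co1]; decide +kernel) (x := π ⟨g, hg⟩) (y := (permC s23 : Co0))
    (orderOf_eq_prime (by rw [← map_pow, ← map_one π]; exact congrArg π (Subtype.ext h1)) (mt (M.ker _).1 h2))
    (orderOf_eq_prime (by rw [← QuotientGroup.mk_pow, ← H55.permC_pow', s23_pow, permC_one]; rfl)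
      fun e => s23_ne (permC_mem_signG (by
        rcases co1_eq_iff.1 (show ((1 : Co0) : Spor.Co1) = _ from e.symm) with e | e <;> rw [e]
        exacts [one_mem _, mul_mem negC_mem_signG (one_mem _)])))
  obtain ⟨c, hc⟩ := isConj_iff.1 hj
  obtain ⟨k, rfl⟩ := QuotientGroup.mk_surjective c
  exact ⟨j, k, zpow_mem hg j, by rw [← hc, ← map_zpow]; rfl⟩

theorem cent23 (hg : g ∈ C) (h1 : g ^ 23 = 1) (h2 : g ∉ Q) {c : Spor.Co1} (h : c * π ⟨g, hg⟩ = π ⟨g, hg⟩ * c)
    {n : ℕ} (hn : c ^ 2 ^ n = 1) : c = 1 := by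
  obtain ⟨j, k, a, e⟩ := M.frame23 hg h1 h2
  obtain ⟨i, -, hi⟩ := H55.OutCo1.cen_x (c := k * c * (k : Spor.Co1)⁻¹) (by
    have := (Commute.zpow_right (show Commute c _ from h) j).map (MulAut.conj (k : Spor.Co1))
    rw [← map_zpow] at this
    exact e ▸ this)
  have := eq_one_of_odd (x := k * c * (k : Spor.Co1)⁻¹) (p := 23) (n := n) (by decide) (by
    rw [hi, ← pow_mul, mul_comm, pow_mul, ← QuotientGroup.mk_pow, ← H55.permC_pow', s23_pow, permC_one]
    exact one_pow _) (by rw [conj_pow, hn]; simp)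
  simpa using this

theorem card_pk23 (hg : g ∈ C) (h1 : g ^ 23 = 1) (h2 : g ∉ Q) {O : Subgroup G} (hO : O ≤ C)
    (hn : ∀ o ∈ O, g * o * g⁻¹ ∈ O) (h : IsPGroup 2 O) (hQ : ¬ O ≤ Q) : Nat.card (pk π O) = 4096 := by
  have : Fact (Nat.Prime 2) := ⟨Nat.prime_two⟩
  have := finite_Co0
  have hp := (h.comap_of_injective C.subtype C.subtype_injective).map π
  obtain ⟨a, ha⟩ := hp.exists_card_eq
  have h3 : 23 ∣ (((O.subgroupOf C).map π : Set Spor.Co1) \ {1}).ncard := by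
    by_contra hd
    obtain ⟨c, ⟨c1, c2⟩, c3⟩ := exists_comm (by norm_num) (β := π ⟨g, hg⟩)
      (by rw [← map_pow, ← map_one π]; exact congrArg π (Subtype.ext h1)) (by
        rintro _ ⟨⟨o, ho, rfl⟩, b⟩
        exact ⟨⟨⟨g, hg⟩ * o * ⟨g, hg⟩⁻¹, hn _ ho, by simp⟩, by simpa using b⟩) hd
    obtain ⟨n, e⟩ := hp ⟨c, c1⟩
    exact c2 (M.cent23 hg h1 h2 c3 (congrArg Subtype.val e))
  have ha : Nat.card ((O.subgroupOf C).map π) = 2 ^ a := ha
  rw [Set.ncard_sdiff_singleton_of_mem (one_mem _), ← Nat.card_coe_set_eq, SetLike.coe_sort_coe, ha] at h3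
  have h4 := card_subgroup_dvd_card ((O.subgroupOf C).map π)
  rw [ha, show Nat.card Spor.Co1 = _ from card_Co1] at h4
  have h5 : a < 22 := not_le.1 fun b => absurd ((pow_dvd_pow 2 b).trans h4) (by norm_num)
  have h6 : a ≠ 0 := by
    rintro rfl
    exact hQ fun o ho => (M.ker ⟨o, hO ho⟩).1 (mem_bot.1 ((card_eq_one.1 ha).le ⟨_, ho, rfl⟩))
  rw [pk, card_comap_co1, ha]
  interval_cases a <;> omega

theorem congr_fix {a x : G} {k : Co0} {v : leechLattice} (hk : PJ π x k) (hv : R a v)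
    (h : x * a * x⁻¹ = a ∨ x * a * x⁻¹ = z * a) : ∃ w, k • v = v + (w + w) := by
  have := M.act hk hv
  rcases h with h | h <;> rw [h] at this
  exacts [M.congr hv this, M.congr (M.zmul hv) this]

theorem four23 (hg : g ∈ C) (h1 : g ^ 23 = 1) (h2 : g ∉ Q) {a b : G} (ha : a ∈ Q) (hb : b ∈ Q)
    (ga : a * g = g * a) (gb : b * g = g * b) (a1 : a ≠ 1) (a2 : a ≠ z) (h : a * b = b * a) : b ∈ four z a := by
  obtain ⟨j, k, e⟩ := M.frame23 hg h1 h2
  have M := M.twist k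
  have key : ∀ a ∈ Q, a * g = g * a → ∃ m n : ℤ, R a (k⁻¹ • (m • vv + n • e8 none)) := fun a ha ga => by
    obtain ⟨v, hv⟩ := M.ex a ha
    obtain ⟨u, u1, u2⟩ := exists_fixed_rep (p := 23) (by decide)
      (by rw [← H55.permC_pow', s23_pow, permC_one]) (mk_eq_iff'.2 (M.congr_fix e hv (.inl (by
        rw [← (Commute.zpow_right (show Commute a g from ga) j).eq, mul_inv_cancel_right]))))
    obtain ⟨w, rfl⟩ := mk_eq_iff'.1 u2
    obtain ⟨m, n, e⟩ := cls23 u1
    exact ⟨m, n, e ▸ M.add_two hv w⟩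
  obtain ⟨m, n, h3⟩ := key a ha ga
  obtain ⟨m', n', h4⟩ := key b hb gb
  have h5 := (M.comm_iff h3 h4).1 h
  simp only [AddSubgroup.coe_add, AddSubgroup.coe_zsmul, dot_add_left, dot_add_right, dot_smul_left,
    dot_smul_right, dot_self, sqNorm_vv, sqNorm_e8, dot_comm (e8 none : Vec) vv,
    show dotInt (vv : Vec) (e8 none : Vec) = -40 from dot_e8 _ _] at h5
  have ev : ∀ {q} {m n : ℤ}, R q (k⁻¹ • (m • vv + n • e8 none)) → m % 2 = 0 → n % 2 = 0 → q = 1 ∨ q = z :=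
    fun {q m n} h c d => (M.one_iff h).2 ⟨(m / 2) • vv + (n / 2) • e8 none, by
      rw [add_add_add_comm, ← add_smul, ← add_smul]; congr 2 <;> omega⟩
  have h6 : ¬ (m % 2 = 0 ∧ n % 2 = 0) := fun c => (ev h3 c.1 c.2).elim a1 a2
  rw [M.mem_four ha]
  by_cases c : m' % 2 = 0 ∧ n' % 2 = 0
  · exact (ev h4 c.1 c.2).imp_right .inl
  · have h7 := M.mul h4 (M.inv h3)
    rw [add_add_add_comm, ← add_smul, ← add_smul] at h7
    have h8 : (m * n' + n * m') % 2 = 0 := by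
      have : (16 : ℤ) ∣ 8 * (m * n' + n * m') := by
        obtain ⟨c, hc⟩ := h5
        exact ⟨c + 3 * (m * n' + n * m') - 3 * m * m' - 4 * n * n', by linear_combination hc⟩
      omega
    rw [Int.add_emod, Int.mul_emod, Int.mul_emod n] at h8
    have : (m' + m) % 2 = 0 ∧ (n' + n) % 2 = 0 := by
      rcases Int.emod_two_eq_zero_or_one m with e1 | e1 <;> rcases Int.emod_two_eq_zero_or_one n with e2 | e2 <;>
        rcases Int.emod_two_eq_zero_or_one m' with e3 | e3 <;> rcases Int.emod_two_eq_zero_or_one n' with e4 | e4 <;>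
        simp only [e1, e2, e3, e4] at h8 <;> omega
    exact .inr (.inr ((ev h7 this.1 this.2).imp mul_inv_eq_one.1 mul_inv_eq_iff_eq_mul.1))

theorem uniq23 (hg : g ∈ C) (h1 : g ^ 23 = 1) (h2 : g ∉ Q) {a b : G} {v w : leechLattice} (ha : R a v)
    (hb : R b w) (hv : sqNorm (v : Vec) = 64) (hw : sqNorm (w : Vec) = 64) (ga : a * g = g * a)
    (gb : b * g = g * b) : b = a ∨ b = z * a := by
  obtain ⟨j, k, e⟩ := M.frame23 hg h1 h2
  have M := M.twist k
  have key : ∀ a v, R a v → sqNorm (v : Vec) = 64 → a * g = g * a → R a (k⁻¹ • e8 none) := fun a v hv n ga => by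
    rw [← inv_smul_smul k v] at hv
    obtain ⟨u, ⟨u0, u1⟩, u2⟩ := exists_fixed_rep64 (p := 23) (by norm_num) (by norm_num)
      (by rw [← H55.permC_pow', s23_pow, permC_one]) ((co0_norm k v).trans n)
      (mk_eq_iff'.2 (M.congr_fix e hv (.inl (by
        rw [← (Commute.zpow_right (show Commute a g from ga) j).eq, mul_inv_cancel_right]))))
    obtain ⟨w, rfl⟩ := mk_eq_iff'.1 u2
    have := M.add_two hv w
    rcases fix23_64 u1 u0 with e | e <;> rw [e] at this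
    exacts [this, by simpa using M.neg this]
  exact M.uniq (key a v ha hv ga) (key b w hb hw gb)

variable {t : G} (ht : R t (e8 none)) {O : Subgroup G} (hO : signG ≤ pk π O)
include ht hO

omit hO in
theorem four_of_fix {a : G} {v : leechLattice} (hv : R a v) (h : ∀ c hc, ∃ w, signC c hc • v = v + (w + w)) :
    a ∈ four z t := by
  rw [M.mem_four (M.mem ht), ← or_assoc]
  refine (fix_sign h).imp (M.one_iff hv).2 ?_
  rintro ⟨w, rfl⟩
  exact M.uniq (M.add_two ht w) hv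

theorem fix4 {a : G} (ha : a ∈ Q) (h : ∀ o ∈ O, o * a * o⁻¹ = a ∨ o * a * o⁻¹ = z * a) : a ∈ four z t :=
  let ⟨_, hv⟩ := M.ex a ha
  M.four_of_fix ht hv fun c hc =>
    let ⟨o, h1, h2⟩ := mem_pk.1 (hO (signC_mem_signG c hc)); M.congr_fix h2 hv (h o h1)

omit ht in
theorem sub_mem {K : Subgroup G} (hn : ∀ o ∈ O, ∀ a ∈ K, o * a * o⁻¹ ∈ K) {a : G} (ha : a ∈ K)
    {v : leechLattice} (hv : R a v) {c : Finset GolayPt} (hc : IsCw c) : ∃ b ∈ K, R b (v + -(signC c hc • v)) :=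
  let ⟨o, h1, h2⟩ := mem_pk.1 (hO (signC_mem_signG c hc))
  ⟨_, mul_mem ha (hn o h1 a ha), M.mul hv (M.neg (M.act h2 hv))⟩

/-- a subgroup normalised by all sign changes contains `t` -/
theorem fx {K : Subgroup G} (hK : K ≤ Q) (hz : z ∈ K) (hn : ∀ o ∈ O, ∀ a ∈ K, o * a * o⁻¹ ∈ K) {a : G}
    (ha : a ∈ K) (a1 : a ≠ 1) (a2 : a ≠ z) : t ∈ K := by
  have fin : ∀ a ∈ K, a ∈ four z t → a ≠ 1 → a ≠ z → t ∈ K := fun a ha h a1 a2 => by
    rcases (M.mem_four (M.mem ht)).1 h with e | e | e | e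
    exacts [absurd e a1, absurd e a2, e ▸ ha, (mul_mem_cancel_left hz).1 (e ▸ ha)]
  have key : ∀ m : ℕ, ∀ a ∈ K, ∀ v, R a v → (∀ i, (8 : ℤ) ∣ 2 ^ m * (v : Vec) i) → a ≠ 1 → a ≠ z → t ∈ K := by
    intro m
    induction m with
    | zero =>
      refine fun a ha v hv h => fin a ha (M.four_of_fix ht hv fun c hc => ?_)
      have : ∀ i, ∃ k, (if i ∈ c then -(v : Vec) i else 0) = 8 * k := fun i => by
        split_ifs
        exacts [(dvd_neg.2 (by simpa using h i) :), ⟨0, rfl⟩]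
      choose k hk using this
      refine ⟨⟨_, eight_smul_mem k⟩, Subtype.ext (funext fun i => ?_)⟩
      have := hk i
      simp only [signC_apply, AddSubgroup.coe_add, Pi.add_apply, Pi.smul_apply, smul_eq_mul]
      split_ifs at this ⊢ <;> omega
    | succ m ih =>
      intro a ha v hv h a1 a2
      by_cases f : ∀ c hc, ∃ w, signC c hc • v = v + (w + w)
      · exact fin a ha (M.four_of_fix ht hv f) a1 a2
      push Not at f
      obtain ⟨c, hc, f⟩ := f
      obtain ⟨b, hb, e⟩ := M.sub_mem hO hn ha hv hc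
      have : ¬ (b = 1 ∨ b = z) := fun n => let ⟨w, hw⟩ := (M.one_iff e).1 n; f (-w) (by
        rw [← neg_add, ← hw]; abel)
      refine ih b hb _ e (fun i => ?_) (fun n => this (.inl n)) fun n => this (.inr n)
      rw [sub_sign]
      split_ifs
      exacts [by rw [← mul_assoc, ← pow_succ]; exact h i, by simp]
  obtain ⟨v, hv⟩ := M.ex a (hK ha)
  exact key 3 a ha v hv (fun i => dvd_mul_right _ _) a1 a2

/-- a proper subgroup normalised by all sign changes centralises `t` -/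
theorem fx' {K : Subgroup G} (hK : K ≤ Q) (hz : z ∈ K) (hn : ∀ o ∈ O, ∀ a ∈ K, o * a * o⁻¹ ∈ K) (hC : O ≤ C)
    {a : G} (ha : a ∈ Q) (h : a ∉ K) : ∀ b ∈ K, b * t = t * b := by
  obtain ⟨b, hb, b1, b2⟩ := M.sep K hK hz a ha h
  refine (M.fx ht hO (K := Q ⊓ centralizer (K : Set G)) inf_le_left ⟨M.ex0.mem, fun c hc => M.ex0.cen c (hK hc)⟩
    (fun o ho c hc => ⟨M.norm (hC ho) hc.1, fun d hd => ?_⟩) ⟨hb, fun m hm => (b1 m hm).symm⟩ ?_ ?_).2
  · calc _ = o * (o⁻¹ * d * o⁻¹⁻¹ * c) * o⁻¹ := by group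
      _ = _ := by rw [hc.2 _ (hn _ (inv_mem ho) d hd)]; group
  · rintro rfl
    exact M.ex0.ne (by simpa using b2.symm)
  · rintro rfl
    rw [← M.ex0.cen a ha, mul_inv_cancel_right] at b2
    exact M.ex0.ne (by simpa using b2.symm)

end Cfsg.Agent.H8.MA.RC
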