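import Cfsg.Agent.H8.MA.G2

/-! A subgroup `2^11.M24` of `Co1` is monomial in a suitable frame. -/

set_option autoImplicit false

namespace Cfsg.Agent.H8.MA

open Subgroup H15 MON.Cm
open scoped Pointwise

theorem exists_syl {A H : Subgroup Co0} (hA : A ≤ H) (h2 : Nat.card A = 4096) (hH : Nat.card H = Nat.card monoN) :
    ∃ S : Sylow 2 Co0, A ≤ S ∧ (S : Subgroup Co0) ≤ H := by
  have : Fact (Nat.Prime 2) := ⟨Nat.prime_two⟩
  have := finite_Co0
  obtain ⟨P, hP⟩ := ((IsPGroup.of_card (p := 2) (n := 12) h2).comap_of_injective H.subtype H.subtype_injective).exists_le_sylow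
  exact ⟨Sylow.ofCard ((P : Subgroup H).map H.subtype) (by
    rw [card_map_of_injective H.subtype_injective, P.card_eq_multiplicity, hH, card_monoN', card_Co0]
    decide +kernel), fun a ha => ⟨⟨a, hA ha⟩, hP ha, rfl⟩, map_subtype_le _⟩

namespace RC

variable {G : Type*} [Group G] {C : Subgroup G} {z : G} {Q : Subgroup G} {π : C →* Spor.Co1}
  {R : G → leechLattice → Prop} (M : RC C z Q π R) {g t : G} {X : Subgroup G}
include M

theorem abelian_le {E : Subgroup G} (h1 : E ≤ Q) (hz : z ∈ E) (h : ∀ a ∈ E, ∀ b ∈ E, a * b = b * a) :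
    Nat.card E ≤ 2 ^ 13 := by
  have := M.finQ
  have h2 := M.card_cent h1 hz
  have : Finite (Q ⊓ centralizer (E : Set G) : Subgroup G) := Finite.of_injective _ (inclusion_injective inf_le_left)
  have h3 := card_le_of_le (show E ≤ Q ⊓ centralizer (E : Set G) from fun a ha => ⟨h1 ha, fun b hb => h b hb a ha⟩)
  nlinarith

variable (ht : R t (e8 none)) (hX : signG ≤ pk π X) {F : Subgroup G} (hF : F ≤ Q) (hz : z ∈ F) (htF : t ∈ F)
include ht hF hz htF

omit hF in
theorem duads_of_four (h : ∀ q ∈ F, ∃ v, R q v ∧ ∀ i, (v : Vec) i % 4 = 0) (hc : 2 ^ 12 ≤ Nat.card F) :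
    ∃ D : Finset GolayPt, 6 ≤ D.card ∧ ∀ i ∈ D, ∀ j ∈ D, ∀ e, R e (w4 i j 1 rfl) → e ∈ F := by
  classical
  have := M.finQ
  let E : Subgroup G :=
    { carrier := {q | ∃ v, R q v ∧ ∀ i, (v : Vec) i % 4 = 0}
      one_mem' := ⟨0, by simpa using M.two 0, fun _ => rfl⟩
      mul_mem' := by
        rintro a b ⟨v, h1, h2⟩ ⟨w, h3, h4⟩
        refine ⟨_, M.mul h1 h3, fun i => ?_⟩
        have := h2 i
        have := h4 i
        rw [AddSubgroup.coe_add, Pi.add_apply]; omega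
      inv_mem' := fun ⟨v, h1, h2⟩ => ⟨v, M.inv h1, h2⟩ }
  have hE : E ≤ Q := fun _ ⟨_, h, _⟩ => M.mem h
  have : Finite E := Finite.of_injective _ (inclusion_injective hE)
  have h1 := M.abelian_le hE (h z hz) fun a ⟨v, h1, h2⟩ b ⟨w, h3, h4⟩ => (M.comm_iff h1 h3).2 (dot44 h2 h4)
  have h2 := (F.subgroupOf E).card_mul_index
  rw [Nat.card_congr (subgroupOfEquivOfLe (show F ≤ E from h)).toEquiv] at h2
  have h3 : ∀ a b : E, (a.1 ∈ F ↔ b.1 ∈ F) → a.1 * b.1 ∈ F := fun a b e => by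
    have i0 : (F.subgroupOf E).index ≠ 0 := index_ne_zero_of_finite
    have i1 : (F.subgroupOf E).index ≤ 2 := by nlinarith
    rcases (by omega : (F.subgroupOf E).index = 1 ∨ (F.subgroupOf E).index = 2) with i | i
    · exact (index_eq_one.1 i).ge (mem_top (a * b))
    · exact (mul_mem_iff_of_index_two i (a := a) (b := b)).2 e
  choose e he using fun i => M.ex' (w4 none i 1 rfl)
  have h4 : ∀ i j, (e i ∈ F ↔ e j ∈ F) → ∀ a, R a (w4 i j 1 rfl) → a ∈ F := fun i j c a ha => by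
    have k : ∀ i, e i ∈ E := fun i => ⟨_, he i, fun l => by rw [w4_apply]; split_ifs <;> rfl⟩
    have h5 := mul_mem (h3 ⟨_, k i⟩ ⟨_, k j⟩ c) htF
    have h6 := M.mul (M.mul (he i) (he j)) (M.neg ht)
    rw [show w4 none i 1 rfl + w4 none j 1 rfl + -e8 none = w4 i j 1 rfl from Subtype.ext (funext fun l => by
      simp only [AddSubgroup.coe_add, AddSubgroup.coe_neg, Pi.add_apply, Pi.neg_apply, w4_apply, e8_val,
        Pi.single_apply]
      split_ifs <;> rfl)] at h6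
    rcases M.uniq h6 ha with rfl | rfl
    exacts [h5, mul_mem hz h5]
  have h5 := Finset.card_filter_add_card_filter_not (s := Finset.univ) fun i => e i ∈ F
  rw [Finset.card_univ, card_pt] at h5
  by_cases c : 6 ≤ (Finset.univ.filter fun i => e i ∈ F).card
  · exact ⟨_, c, fun i hi j hj => h4 i j (iff_of_true (Finset.mem_filter.1 hi).2 (Finset.mem_filter.1 hj).2)⟩
  · exact ⟨Finset.univ.filter fun i => e i ∉ F, by omega,
      fun i hi j hj => h4 i j (iff_of_false (Finset.mem_filter.1 hi).2 (Finset.mem_filter.1 hj).2)⟩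

include hX

theorem duads_of_two (hn : ∀ o ∈ X, ∀ a ∈ F, o * a * o⁻¹ ∈ F) {q : G} (hq : q ∈ F) {v : leechLattice}
    (hv : R q v) {d : Finset GolayPt} (h12 : d.card ≤ 12) (hd : IsCw d)
    (h : ∀ i, (v : Vec) i % 4 = if i ∈ d then 2 else 0) {i j : GolayPt} (hi : i ∈ d) (hj : j ∈ d) {e : G}
    (he : R e (w4 i j 1 rfl)) : e ∈ F := by
  by_contra hn'
  obtain ⟨b, hb, b1, b2⟩ := M.sep F hF hz e (M.mem he) hn'
  obtain ⟨u, hu⟩ := M.ex b hb
  have h1 := (M.comm_iff hu ht).1 (b1 t htF)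
  rw [dot_e8] at h1
  have h2 := ((parity_cases u.2).resolve_right fun a => by have := a.1 none; omega).1
  have h3 : IsCw ((Finset.univ.filter fun i => (u : Vec) i % 4 = 2 % 4) ∩ d) := isCw_of_even fun c hc => by
    obtain ⟨a, ha, e⟩ := M.sub_mem hX hn hq hv hc
    have := (M.comm_iff hu e).1 (b1 a ha)
    rw [dotInt, Finset.sum_congr rfl (g := fun i => 16 * (if i ∈ c then (u : Vec) i / 2 * ((v : Vec) i / 2) / 2 else 0)
      + 8 * if i ∈ c ∩ ((Finset.univ.filter fun i => (u : Vec) i % 4 = 2 % 4) ∩ d) then 1 else 0) fun i _ => by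
        have a1 := h i
        have a2 := h2 i
        have a3 := Int.mul_emod ((u : Vec) i / 2) ((v : Vec) i / 2) 2
        have a4 : (u : Vec) i * (2 * (v : Vec) i) = 8 * ((u : Vec) i / 2 * ((v : Vec) i / 2)) := by
          rw [← Int.two_mul_ediv_two_of_even (Int.even_iff.2 a2), ← Int.two_mul_ediv_two_of_even
            (Int.even_iff.2 (show (v : Vec) i % 2 = 0 by split_ifs at a1 <;> omega))]
          simp only [Int.mul_ediv_cancel_left _ two_ne_zero]
          ring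
        rw [sub_sign]
        simp only [Finset.mem_inter, Finset.mem_filter, Finset.mem_univ, true_and]
        by_cases c1 : i ∈ c <;> by_cases c2 : i ∈ d <;> by_cases c3 : (u : Vec) i % 4 = 2 % 4 <;>
          simp only [c1, c2, c3, if_true, if_false, and_self, and_true, and_false, mul_zero, add_zero, a4] at a1 ⊢
        · rw [show (u : Vec) i / 2 % 2 = 1 by omega, show (v : Vec) i / 2 % 2 = 1 by omega] at a3; omega
        · rw [show (u : Vec) i / 2 % 2 = 0 by omega] at a3; omega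
        · rw [show (v : Vec) i / 2 % 2 = 0 by omega] at a3; omega
        · rw [show (v : Vec) i / 2 % 2 = 0 by omega] at a3; omega] at this
    simp only [Finset.sum_add_distrib, ← Finset.mul_sum, Finset.sum_ite_mem, Finset.univ_inter,
      Finset.sum_const, nsmul_eq_mul, mul_one] at this
    rw [Nat.even_iff]; omega
  have h4 := h3.card_cases
  have h5 := (hd.symmDiff h3).card_cases
  rw [symmDiff_of_ge Finset.inter_subset_right, Finset.card_sdiff_of_subset Finset.inter_subset_right] at h5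
  have h6 := Finset.card_le_card (Finset.inter_subset_right (s₁ := Finset.univ.filter fun i =>
    (u : Vec) i % 4 = 2 % 4) (s₂ := d))
  have h7 : (u : Vec) i % 4 = 2 % 4 ↔ (u : Vec) j % 4 = 2 % 4 := by
    by_cases c : ((Finset.univ.filter fun i => (u : Vec) i % 4 = 2 % 4) ∩ d).card = 0
    · have := Finset.ext_iff.1 (Finset.card_eq_zero.1 c)
      exact iff_of_false (by simpa [hi] using this i) (by simpa [hj] using this j)
    · have := Finset.ext_iff.1 (Finset.eq_of_subset_of_card_le (Finset.inter_subset_right (s₁ := Finset.univ.filter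
        fun i => (u : Vec) i % 4 = 2 % 4) (s₂ := d)) (by omega))
      exact iff_of_true (by simpa [hi] using this i) (by simpa [hj] using this j)
  rw [(M.comm_iff hu he).2 (by
    have := h2 i
    have := h2 j
    rw [dot_w4]; omega), mul_inv_cancel_right] at b2
  exact M.ex0.ne (by simpa using b2.symm)

theorem duads (hn : ∀ o ∈ X, ∀ a ∈ F, o * a * o⁻¹ ∈ F) (hc : 2 ^ 12 ≤ Nat.card F) :
    ∃ D : Finset GolayPt, 6 ≤ D.card ∧ ∀ i ∈ D, ∀ j ∈ D, ∀ e, R e (w4 i j 1 rfl) → e ∈ F := by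
  by_cases h : ∀ q ∈ F, ∃ v, R q v ∧ ∀ i, (v : Vec) i % 4 = 0
  · exact M.duads_of_four ht hz htF h hc
  push Not at h
  obtain ⟨q, hq, h⟩ := h
  suffices ∃ q ∈ F, ∃ v d, R q v ∧ d.card ≤ 12 ∧ IsCw d ∧ d.card ≠ 0 ∧
      ∀ i, (v : Vec) i % 4 = if i ∈ d then 2 else 0 by
    obtain ⟨q, hq, v, d, h1, h2, h3, h4, h5⟩ := this
    exact ⟨d, by have := h3.card_cases; omega, fun i hi j hj e => M.duads_of_two ht hX hF hz htF hn hq h1 h2 h3 h5 hi hj⟩
  obtain ⟨v, hv⟩ := M.ex q (hF hq)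
  rcases parity_cases v.2 with ⟨a, -⟩ | ⟨a, -⟩
  · have hd := isCw_mod4 v.2 2
    have hv' := M.add_two hv ⟨_, vOdd_mem⟩
    have e : ∀ i, ((v + (⟨_, vOdd_mem⟩ + ⟨_, vOdd_mem⟩) : leechLattice) : Vec) i % 4 = ((v : Vec) i + 2) % 4 :=
      fun i => by
        simp only [AddSubgroup.coe_add, Pi.add_apply, vOdd]
        split_ifs <;> omega
    by_cases c : (Finset.univ.filter fun i => (v : Vec) i % 4 = 2 % 4).card ≤ 12
    · obtain ⟨i, hi⟩ := h v hv
      refine ⟨q, hq, v, _, hv, c, hd, Finset.card_ne_zero.2 ⟨i, Finset.mem_filter.2 ⟨Finset.mem_univ _, ?_⟩⟩,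
        fun i => ?_⟩ <;> have := a i
      · omega
      · simp only [Finset.mem_filter, Finset.mem_univ, true_and]
        split_ifs <;> omega
    · obtain ⟨i, hi⟩ := h _ hv'
      refine ⟨q, hq, _, _, hv', by rw [Finset.card_compl, card_pt]; omega, hd.compl,
        Finset.card_ne_zero.2 ⟨i, ?_⟩, fun i => ?_⟩ <;> have := a i <;> have := e i <;>
        simp only [Finset.mem_compl, Finset.mem_filter, Finset.mem_univ, true_and]
      · omega
      · split_ifs <;> omega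
  · obtain ⟨c, hc, h8⟩ : ∃ c, IsCw c ∧ c.card = 8 := ⟨_, isCw_bits (H14.enc_enc (x := 1) (by omega)), by decide +kernel⟩
    obtain ⟨b, hb, e⟩ := M.sub_mem hX hn hq hv hc
    refine ⟨b, hb, _, c, e, by omega, hc, by omega, fun i => ?_⟩
    have := a i
    rw [sub_sign]
    split_ifs <;> omega

omit ht hX hF hz htF

/-- the normal form -/
theorem nf {O : Subgroup G} (hX : X ≤ C) (hO : O ≤ X) (hn : ∀ x ∈ X, ∀ o ∈ O, x * o * x⁻¹ ∈ O)
    (cO : Nat.card (pk π O) = 4096) (cX : Nat.card (pk π X) = Nat.card monoN) (hg : g ∈ X) (h1 : g ^ 23 = 1)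
    (h2 : g ∉ Q) : ∃ k, pk (tw π k) X = monoN ∧ pk (tw π k) O = signG := by
  have : Fact (Nat.Prime 2) := ⟨Nat.prime_two⟩
  have := finite_Co0
  have := M.finQ
  obtain ⟨S, s1, s2⟩ := exists_syl (pk_mono hO) cO cX
  obtain ⟨T, t1, t2⟩ := exists_syl signG_le card_signG rfl
  obtain ⟨k, rfl⟩ := MulAction.exists_smul_eq Co0 S T
  have e : ∀ H, pk (tw π k) H = MulAut.conj k • pk π H := fun H => Subgroup.ext fun l => by
    rw [mem_pk_tw, mem_pointwise_smul_iff_inv_smul_mem]; simp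
  have o1 : pk (tw π k) O ≤ monoN := e O ▸ (pointwise_smul_le_pointwise_smul_iff.2 s1).trans t2
  have o2 : signG ≤ pk (tw π k) X := e X ▸ t1.trans (pointwise_smul_le_pointwise_smul_iff.2 s2)
  have c : ∀ H, Nat.card (pk (tw π k) H) = Nat.card (pk π H) := fun H => by
    rw [e]; exact card_map_of_injective (MulAut.conj k).injective
  rw [← c] at cO cX
  refine ⟨k, ?_⟩
  have M := M.twist k
  generalize tw π k = π, (fun q v => R q (k⁻¹ • v)) = R at *
  suffices pk π X ≤ monoN by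
    have h3 := eq_of_le_of_card_ge this cX.ge
    refine ⟨h3, eq_of_le_of_card_ge (le_signG o1 (fun k hk l hl => ?_) fun l hl => ⟨12, ?_⟩) (by rw [cO, card_signG])⟩
    · obtain ⟨x, x1, x2⟩ := mem_pk.1 (h3.ge hk)
      obtain ⟨o, a1, a2⟩ := mem_pk.1 hl
      exact mem_pk.2 ⟨_, hn x x1 o a1, (x2.mul a2).mul x2.inv⟩
    · have := congrArg Subtype.val (pow_card_eq_one' (x := (⟨l, hl⟩ : pk π O)))
      rw [cO] at this
      exact (show l ^ 2 ^ 12 = 1 from this) ▸ one_mem _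
  obtain ⟨t, ht⟩ := M.ex' (e8 none)
  let F : Subgroup G :=
    { carrier := {q | q ∈ Q ∧ ∀ o ∈ O, o * q * o⁻¹ = q ∨ o * q * o⁻¹ = z * q}
      one_mem' := ⟨one_mem _, fun o _ => by simp⟩
      mul_mem' := fun {a b} ha hb => ⟨mul_mem ha.1 hb.1, fun o ho => by
        have := M.ex0.cen _ ha.1
        rw [← conj_mul]
        rcases ha.2 o ho with e | e <;> rcases hb.2 o ho with e' | e' <;> rw [e, e']
        · exact .inl rfl
        · exact .inr (by rw [← mul_assoc, this, mul_assoc])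
        · exact .inr (mul_assoc _ _ _)
        · exact .inl (by rw [← this, mul_assoc, M.zz])⟩
      inv_mem' := fun {a} ha => ⟨inv_mem ha.1, fun o ho => by
        rw [← conj_inv]
        refine (ha.2 o ho).imp (fun e => by rw [e]) fun e => ?_
        rw [e, ← M.ex0.cen _ ha.1, mul_inv_rev, inv_eq_of_mul_eq_one_right M.ex0.sq]⟩ }
  have mF : ∀ {q}, q ∈ F ↔ q ∈ Q ∧ ∀ o ∈ O, o * q * o⁻¹ = q ∨ o * q * o⁻¹ = z * q := Iff.rfl
  have hz : z ∈ F := mF.2 ⟨M.ex0.mem, fun o ho => .inl (M.cjz (hX (hO ho)))⟩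
  have htF : t ∈ F := mF.2 ⟨M.mem ht, fun o ho => by
    obtain ⟨l, hl⟩ := PJ.ex (π := π) (hX (hO ho))
    obtain ⟨w, hw⟩ := (mem_monoN_iff_congr none).1 (o1 (mem_pk.2 ⟨o, ho, hl⟩))
    exact M.uniq (M.add_two ht w) (hw ▸ M.act hl ht)⟩
  have hF : ∀ x ∈ X, ∀ a ∈ F, x * a * x⁻¹ ∈ F := fun x hx a ha => mF.2 ⟨M.norm (hX hx) ha.1, fun o ho => by
    have : o * (x * a * x⁻¹) * o⁻¹ = x * (x⁻¹ * o * x⁻¹⁻¹ * a * (x⁻¹ * o * x⁻¹⁻¹)⁻¹) * x⁻¹ := by group
    rw [this]
    refine ((mF.1 ha).2 _ (hn _ (inv_mem hx) o ho)).imp (fun e => by rw [e]) fun e => ?_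
    rw [e, ← conj_mul, M.cjz (hX hx)]⟩
  have hQ : F ≤ Q := fun _ h => h.1
  have : Finite F := Finite.of_injective _ (inclusion_injective hQ)
  by_cases hc : F ≤ centralizer {g}
  · intro l hl
    obtain ⟨x, x1, x2⟩ := mem_pk.1 hl
    exact (mem_monoN_iff_congr none).2 (M.congr_fix x2 ht (M.uniq23 (hX hg) h1 h2 ht (M.act x2 ht) (sqNorm_e8 _)
      ((co0_norm _ _).trans (sqNorm_e8 _)) (mem_centralizer_singleton_iff.1 (hc htF))
      (mem_centralizer_singleton_iff.1 (hc (hF x x1 t htF)))))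
  exfalso
  obtain ⟨a, -, ha⟩ := (Nat.dvd_prime_pow Nat.prime_two).1 (M.card ▸ card_dvd_of_le hQ)
  obtain ⟨b, h3, hb⟩ := (Nat.dvd_prime_pow Nat.prime_two).1
    (ha ▸ card_dvd_of_le (inf_le_left : F ⊓ centralizer {g} ≤ F))
  have h4 : 23 ∣ ((F : Set G) \ (F ⊓ centralizer {g} : Subgroup G)).ncard := by
    by_contra hd
    obtain ⟨c, ⟨c1, c2⟩, c3⟩ := H15.exists_comm (by norm_num) h1
      (S := (F : Set G) \ (F ⊓ centralizer {g} : Subgroup G)) (fun a ⟨a1, a2⟩ => ⟨hF g hg a a1, fun e =>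
      a2 ⟨a1, mem_centralizer_singleton_iff.2 (by
        have := mem_centralizer_singleton_iff.1 e.2
        rw [inv_mul_cancel_right, mul_assoc g a, mul_right_inj, ← mul_assoc] at this
        exact (mul_inv_eq_iff_eq_mul.1 this.symm).symm)⟩⟩) hd
    exact c2 ⟨c1, mem_centralizer_singleton_iff.2 c3⟩
  rw [Set.ncard_sdiff (fun _ h => h.1) ((Set.toFinite (F : Set G)).subset fun _ h => h.1), ← Nat.card_coe_set_eq, ← Nat.card_coe_set_eq,
    SetLike.coe_sort_coe, SetLike.coe_sort_coe, ha, hb] at h4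
  have h5 : b ≠ a := fun e => hc ((eq_of_le_of_card_ge inf_le_left (by rw [ha, hb, e])).ge.trans inf_le_right)
  have h6 : b ≠ 0 := by
    rintro rfl
    exact M.ex0.ne (mem_bot.1 ((card_eq_one.1 hb).le ⟨hz, mem_centralizer_singleton_iff.2 (M.cz g (hX hg)).symm⟩))
  have h7 : 12 ≤ a := by
    by_contra! h7
    interval_cases a <;> interval_cases b <;> omega
  obtain ⟨D, d1, d2⟩ := M.duads ht o2 hQ hz htF hF (ha ▸ Nat.pow_le_pow_right (by norm_num) h7)
  refine card_small o1 cO d1 fun l hl i hi j hj _ => ?_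
  obtain ⟨o, a1, a2⟩ := mem_pk.1 hl
  obtain ⟨e, he⟩ := M.ex' (w4 i j 1 rfl)
  exact M.congr_fix a2 he ((mF.1 (d2 i hi j hj e he)).2 o a1)

end RC

end Cfsg.Agent.H8.MA
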